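import Cfsg.Agent.Lib.BlockLocal.RegUnit
import Cfsg.Agent.Lib.Blocks.Orth
import Cfsg.Agent.Lib.CharTheory.Degree

/-!
The `p`-parts at a defect class: the order of a defect group and the values of characters of
height zero.
-/

set_option autoImplicit false
set_option linter.style.haveILetI false

open scoped ComplexConjugate

namespace CfsgLib.Jordan

open Cfsg CfsgLib.CharTheory CfsgLib.Blocks CfsgLib.BlockLocal Finset

variable {G : Type*} [Group G] [Finite G] {M : Ideal AlgInt} [hMp : M.IsPrime] {p : ℕ}
  [Fact p.Prime] {B : Set (IrrCharacter G)}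

/-- At a defect class, the class size and the degree of a character of height zero have the same
`p`-part. -/
theorem factorization_index_eq (hM : IsPModular p M) (hB : IsPBlock M B) {g : G}
    (hg : IsDefectClass M B g) {χ : IrrCharacter G} (hχ : χ ∈ B)
    (h0 : blockHeight p B (χ : G → ℂ) = 0) :
    (Subgroup.centralizer ({g} : Set G)).index.factorization p =
      (charDegree (χ : G → ℂ)).factorization p := by
  classical
  haveI := Fintype.ofFinite G
  haveI := Fintype.ofFinite (IrrCharacter G)
  set C := Subgroup.centralizer ({g} : Set G) with hC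
  have hn0 := charDegree_irr_ne_zero χ
  refine le_antisymm ?_ ?_
  · refine factorization_le_of_not_memLocalIdeal_div hM hn0 fun hlt => hg.2.2 χ hχ ?_
    rw [centralChar, mul_div_right_comm, ← coe_charDegree χ, ← hC]
    exact memLocalIdeal_mul_right hlt (Blocks.memLocalRing_irr χ g)
  · by_contra hlt
    push Not at hlt
    -- the sum over the coset of a Sylow subgroup of the centralizer
    obtain ⟨Q⟩ := (inferInstance : Nonempty (Sylow p C))
    set R : Subgroup G := (Q : Subgroup C).map C.subtype with hR
    haveI : Fintype R := Fintype.ofFinite _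
    have hcomm : ∀ u ∈ R, g * u = u * g := by
      rintro _ ⟨c, -, rfl⟩
      exact (Subgroup.mem_centralizer_singleton_iff.1 c.2).symm
    have hreg : ¬ p ∣ orderOf g := fun h => hg.2.1 (by
      rw [Blocks.blockCoeff_eq_zero_of_dvd_orderOf hM hB h]; exact memLocalIdeal_zero)
    set S : IrrCharacter G → ℂ := fun η =>
      (∑ u : R, (η : G → ℂ) (g * u)) / (Nat.card R : ℂ) with hS
    have hweak : ∀ u : R, u ≠ 1 →
        ∑ η : IrrCharacter G, (if η ∈ B then (η : G → ℂ) 1 * conj ((η : G → ℂ) (g * u)) else 0) = 0 := by
      intro u hu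
      rw [← finsum_mem_irr_eq_sum B fun η : IrrCharacter G => (η : G → ℂ) 1 * conj ((η : G → ℂ) (g * u))]
      refine finsum_mul_conj_eq_zero_of_isPBlock hM hB (by simpa using (Fact.out : p.Prime).ne_one) ?_
      by_contra hnd
      refine hu (Subtype.ext ((not_dvd_orderOf_mul_iff (hcomm u u.2) ?_ hreg).1 hnd))
      obtain ⟨k, hk⟩ := (IsPGroup.iff_orderOf.1 (Q.2.map C.subtype)) u
      exact ⟨k, by rw [Subgroup.orderOf_coe, hk]⟩
    have hsum : ∑ η : IrrCharacter G, (if η ∈ B then (η : G → ℂ) 1 * conj (S η) else 0) =
        blockCoeff B g * (Nat.card G : ℂ) / (Nat.card R : ℂ) := by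
      have e1 : ∀ η : IrrCharacter G, (if η ∈ B then (η : G → ℂ) 1 * conj (S η) else 0) =
          (∑ u : R, if η ∈ B then (η : G → ℂ) 1 * conj ((η : G → ℂ) (g * u)) else 0) /
            (Nat.card R : ℂ) := by
        intro η
        split_ifs
        · simp only [hS, map_div₀, map_sum, map_natCast, mul_sum, mul_div_assoc, sum_div]
        · simp
      simp only [e1, ← sum_div]
      rw [sum_comm, sum_eq_single (1 : R) (fun u _ hu => hweak u hu) (by simp)]
      congr 1
      rw [blockCoeff, finsum_mem_irr_eq_sum, Subgroup.coe_one, mul_one, mul_comm, ← mul_assoc,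
        mul_inv_cancel₀ (Nat.cast_ne_zero.2 Nat.card_pos.ne'), one_mul]
    have hSint : ∀ η : IrrCharacter G, MemLocalRing M (conj (S η)) := by
      intro η
      obtain ⟨n, ρ, hρ, hη⟩ := η.2
      obtain ⟨a, ha, he⟩ := exists_isIntegral_coset_sum ρ R g hcomm
      have : S η = a := by
        simp only [hS]
        rw [← hη, he, mul_div_cancel_left₀ _ (Nat.cast_ne_zero.2 Nat.card_pos.ne')]
      rw [this]
      exact memLocalRing_of_isIntegral (ha.map (starRingEnd ℂ).toIntAlgHom)
    -- the quotient by the degree of `χ` is a local integer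
    have hloc : MemLocalRing M (blockCoeff B g * (Nat.card G : ℂ) / (Nat.card R : ℂ) /
        (χ : G → ℂ) 1) := by
      rw [← hsum, sum_div]
      refine memLocalRing_sum fun η _ => ?_
      split_ifs with hη
      · rw [mul_div_right_comm]
        exact memLocalRing_mul (memLocalRing_degree_div hM h0 hη) (hSint η)
      · simpa using memLocalRing_natCast (M := M) 0
    -- but the ratio `|R| χ(1) / |G|` is in the ideal
    have hfac : MemLocalIdeal M
        (((Nat.card R * charDegree (χ : G → ℂ) : ℕ) : ℂ) / (Nat.card G : ℂ)) := by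
      by_contra hni
      have h1 := factorization_le_of_not_memLocalIdeal_div hM Nat.card_pos.ne' hni
      have hRQ : Nat.card R = Nat.card (Q : Subgroup C) :=
        Subgroup.card_map_of_injective C.subtype_injective
      rw [Nat.factorization_mul Nat.card_pos.ne' hn0, Finsupp.add_apply, hRQ,
        ← Subgroup.card_mul_index C, Nat.factorization_mul Nat.card_pos.ne'
          Subgroup.index_ne_zero_of_finite, Finsupp.add_apply,
        ← Subgroup.card_mul_index (Q : Subgroup C), Nat.factorization_mul Nat.card_pos.ne'
          Subgroup.index_ne_zero_of_finite, Finsupp.add_apply,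
        Nat.factorization_eq_zero_of_not_dvd Q.not_dvd_index] at h1
      omega
    refine hg.2.1 ?_
    have h2 := memLocalIdeal_mul_left hloc hfac
    convert h2 using 1
    have hne : (χ : G → ℂ) 1 ≠ 0 := apply_one_ne_zero_of_isIrr χ.2
    have hG : (Nat.card G : ℂ) ≠ 0 := Nat.cast_ne_zero.2 Nat.card_pos.ne'
    have hR0 : (Nat.card R : ℂ) ≠ 0 := Nat.cast_ne_zero.2 Nat.card_pos.ne'
    push_cast
    rw [coe_charDegree]
    field_simp

/-- A defect group has order `p` to the defect. -/
theorem card_defectGroup (hM : IsPModular p M) (hB : IsPBlock M B) {D : Subgroup G}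
    (hD : IsDefectGroup p M B D) : Nat.card D = p ^ blockDefect p B := by
  obtain ⟨g, hg, P, rfl⟩ := hD
  obtain ⟨χ, hχ, h0⟩ := exists_height_zero (p := p) (Blocks.isPBlock_nonempty hB)
  rw [Subgroup.card_map_of_injective (Subgroup.subtype_injective _), P.card_eq_multiplicity]
  congr 1
  have hmin : sInf ((fun ψ : IrrCharacter G => (charDegree (ψ : G → ℂ)).factorization p) '' B) =
      (charDegree (χ : G → ℂ)).factorization p :=
    le_antisymm (Nat.sInf_le ⟨χ, hχ, rfl⟩) (Nat.sub_eq_zero_iff_le.1 h0)
  rw [blockDefect, hmin, ← factorization_index_eq hM hB hg hχ h0,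
    ← Subgroup.card_mul_index (Subgroup.centralizer ({g} : Set G)),
    Nat.factorization_mul Nat.card_pos.ne' Subgroup.index_ne_zero_of_finite, Finsupp.add_apply,
    add_tsub_cancel_right]

/-- A character of height zero takes a unit value at a defect class. -/
theorem not_memLocalIdeal_apply_of_height_zero (hM : IsPModular p M) (hB : IsPBlock M B) {g : G}
    (hg : IsDefectClass M B g) {χ : IrrCharacter G} (hχ : χ ∈ B)
    (h0 : blockHeight p B (χ : G → ℂ) = 0) : ¬ MemLocalIdeal M ((χ : G → ℂ) g) := by
  haveI := Fintype.ofFinite G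
  intro h
  refine hg.2.2 χ hχ ?_
  rw [centralChar, mul_div_right_comm, ← coe_charDegree χ]
  exact memLocalIdeal_mul_left (memLocalRing_natCast_div hM (charDegree_irr_ne_zero χ)
    (factorization_index_eq hM hB hg hχ h0).ge) h

end CfsgLib.Jordan
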