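import Cfsg.Agent.Lib.Jordan.MathieuData
import Cfsg.Agent.Lib.Golay.M24
import Cfsg.Agent.Lib.GolayStructure.SextetStab
import Cfsg.Agent.Lib.GolayStructure.OctadStab
import Cfsg.Agent.Lib.ExtraspecialLarge.M24Classes
import Cfsg.Prelude.Def_Spor_Mathieu
import Mathlib.GroupTheory.PGroup
import Mathlib.GroupTheory.Sylow
import Mathlib.GroupTheory.GroupAction.Quotient

/-!
Centralizers in the Mathieu groups: involutions have a normal 2-subgroup containing its centralizer,
and bounds for the centralizers and normalisers of elements of prime order.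
-/

set_option autoImplicit false
set_option linter.style.haveILetI false
set_option linter.unusedSectionVars false

open Cfsg CfsgLib.Golay
open scoped Pointwise

namespace CfsgLib.Jordan.MathieuCent

open CfsgLib.GolayStructure (spanGroup spanTbl spanOK m24Of spanGroup_spec isTbl_m24Of compTbl idTbl)
open CfsgLib.ExtraspecialLarge.M24Classes (iterAt iterAt_spec)
open MathieuData

local notation "PermP" => Equiv.Perm GolayPt

/-- The involution `x` has, in its centralizer in `K`, a normal 2-subgroup which no non-trivial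
element of odd order centralizes. -/
def GoodCentralizer (K : Subgroup PermP) (x : PermP) : Prop :=
  ∃ R : Subgroup PermP, R ≤ K ∧ (∀ r ∈ R, r * x = x * r) ∧
    (∀ c ∈ K, c * x = x * c → ∀ r ∈ R, c * r * c⁻¹ ∈ R) ∧ IsPGroup 2 R ∧
    ∀ g ∈ K, g * x = x * g → Odd (orderOf g) → (∀ r ∈ R, r * g = g * r) → g = 1

/-- The involution fixing the octad. -/
def octInv : ℕ := 967739223789245171407146504132003936

/-- Separation of the orbits of a list of commuting involutions. -/
def sepOK (span : List ℕ) (W : List ℕ) : Bool :=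
  W.all fun i => (List.range 24).all fun j =>
    !(span.all fun t => (tblAt t i == i) == (tblAt t j == j)) || span.any fun t => tblAt t i == j

/-- An element commuting with the listed involutions squares to the identity on the separated
points. -/
theorem sq_fix_of_commute {R : Subgroup PermP} {span W : List ℕ} (hsep : sepOK span W = true)
    (hspan : ∀ t ∈ span, ∃ r ∈ R, IsTbl r t) (hexp : ∀ r ∈ R, r * r = 1) {g : PermP}
    (hg : ∀ r ∈ R, r * g = g * r) {p : GolayPt} (hp : idx p ∈ W) : g (g p) = p := by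
  simp only [sepOK, List.all_eq_true, List.mem_range, Bool.or_eq_true, Bool.not_eq_true',
    List.any_eq_true, List.all_eq_false] at hsep
  rcases hsep (idx p) hp (idx (g p)) (idx_lt _) with ⟨t, ht, h⟩ | ⟨t, ht, he⟩
  · exfalso
    obtain ⟨r, hr, hrt⟩ := hspan t ht
    have hiff : tblAt t (idx p) = idx p ↔ tblAt t (idx (g p)) = idx (g p) := by
      rw [← hrt p, ← hrt (g p), idx_injective.eq_iff, idx_injective.eq_iff, ← Equiv.Perm.mul_apply,
        hg r hr, Equiv.Perm.mul_apply, g.injective.eq_iff]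
    apply h
    rw [beq_iff_eq, Bool.eq_iff_iff, beq_iff_eq, beq_iff_eq]
    exact hiff
  · obtain ⟨r, hr, hrt⟩ := hspan t ht
    have h1 : r p = g p := idx_injective ((hrt p).trans (beq_iff_eq.1 he))
    rw [← h1, ← Equiv.Perm.mul_apply, ← hg r hr, Equiv.Perm.mul_apply, ← h1, ← Equiv.Perm.mul_apply,
      hexp r hr, Equiv.Perm.one_apply]

theorem eq_one_of_odd_sq {g : PermP} (h : g ^ 2 = 1) (hodd : Odd (orderOf g)) : g = 1 := by
  rw [← orderOf_eq_one_iff]
  rcases (Nat.dvd_prime Nat.prime_two).1 (orderOf_dvd_of_pow_eq_one h) with e | e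
  · exact e
  · rw [e] at hodd; exact absurd hodd (by decide)

/-- An element fixing the listed points is trivial when the certificate holds. -/
theorem eq_one_of_fix {W cert : List ℕ} (hW : ∀ i ∈ W, i < 24)
    (h : chainOK (W.map (2 ^ ·)) [] cert = true) {g : PermP} (hg : g ∈ M24)
    (hfix : ∀ i ∈ W, g (pt i) = pt i) : g = 1 := by
  have hmem : g ∈ stabK (W.map (2 ^ ·)) := by
    refine mem_stabK.2 ⟨hg, fun n hn => ?_⟩
    obtain ⟨i, hi, rfl⟩ := List.mem_map.1 hn
    rw [unmask_two_pow_of_lt (hW i hi), Finset.smul_finset_singleton, Equiv.Perm.smul_def, hfix i hi]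
  rwa [stabK_eq_bot h, Subgroup.mem_bot] at hmem

section Span

variable {six : List (ℕ × ℕ)}

/-- The span as a subgroup of the symmetric group. -/
noncomputable def spanPerm (six : List (ℕ × ℕ)) : Subgroup PermP := (spanGroup six).map M24.subtype

theorem spanPerm_le (six : List (ℕ × ℕ)) : spanPerm six ≤ M24 := Subgroup.map_subtype_le _

theorem spanPerm_props (h : spanOK six = true) :
    (∀ r ∈ spanPerm six, ∃ t ∈ spanTbl (six.map Prod.fst), IsTbl r t) ∧
      (∀ t ∈ spanTbl (six.map Prod.fst), inM24 t = true → ∃ r ∈ spanPerm six, IsTbl r t) ∧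
      (∀ r ∈ spanPerm six, r * r = 1) ∧ IsPGroup 2 (spanPerm six) ∧
      Nat.card (spanPerm six) = (spanTbl (six.map Prod.fst)).length := by
  obtain ⟨hiff, hcard, hsq⟩ := spanGroup_spec h
  have hexp : ∀ r ∈ spanPerm six, r * r = 1 := by
    rintro _ ⟨r, hr, rfl⟩
    rw [← map_mul, hsq r hr, map_one]
  refine ⟨?_, fun t ht hm => ?_, hexp, fun r => ⟨1, Subtype.ext ?_⟩, ?_⟩
  · rintro _ ⟨r, hr, rfl⟩
    exact (hiff r).1 hr
  · obtain ⟨g, hg⟩ := exists_isTbl (show okTbl t = true by
      simp only [inM24, Bool.and_eq_true] at hm; exact hm.1)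
    exact ⟨g, ⟨⟨g, mem_M24_of_isTbl hg hm⟩, (hiff _).2 ⟨t, ht, hg⟩, rfl⟩, hg⟩
  · rw [pow_one, SubgroupClass.coe_pow, pow_two]
    exact hexp r r.2
  · rw [spanPerm, Subgroup.card_map_of_injective M24.subtype_injective, hcard]

theorem spanPerm_comm (h : spanOK six = true) {a b : PermP} (ha : a ∈ spanPerm six)
    (hb : b ∈ spanPerm six) : a * b = b * a := by
  have he := (spanPerm_props h).2.2.1
  have hinv : ∀ r ∈ spanPerm six, r⁻¹ = r := fun r hr => inv_eq_of_mul_eq_one_right (he r hr)
  have h1 := hinv _ (mul_mem ha hb)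
  rw [mul_inv_rev, hinv a ha, hinv b hb] at h1
  exact h1.symm

end Span

/-! ### Involutions with fixed points -/

theorem octad_checks :
    spanOK octadFour = true ∧
    (spanTbl (octadFour.map Prod.fst)).all inM24 = true ∧
    (spanTbl (octadFour.map Prod.fst)).length = 16 ∧
    sepOK (spanTbl (octadFour.map Prod.fst)) outsideList = true ∧
    chainOK (outsideList.map (2 ^ ·)) [] outsideCert = true ∧
    (outsideList.all fun i => decide (i < 24)) = true ∧
    ((spanTbl (octadFour.map Prod.fst)).all fun t =>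
      (List.range 24).all fun i => !(tblAt octInv i == i) || tblAt t i == i) = true ∧
    (Finset.univ.filter fun p : GolayPt => tblAt octInv (idx p) = idx p).card = 8 := by
  decide +kernel

/-- An involution of `M24` with fixed points: its centralizer is good, and the subgroup fixes
every point the involution fixes. -/
theorem good_fix {x : PermP} (hx : x ∈ M24) (hord : orderOf x = 2) {p : GolayPt} (hp : x p = p) :
    ∃ R : Subgroup PermP, R ≤ M24 ∧ (∀ r ∈ R, r * x = x * r) ∧
    (∀ c ∈ M24, c * x = x * c → ∀ r ∈ R, c * r * c⁻¹ ∈ R) ∧ IsPGroup 2 R ∧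
    (∀ g ∈ M24, g * x = x * g → Odd (orderOf g) → (∀ r ∈ R, r * g = g * r) → g = 1) ∧
    ∀ r ∈ R, ∀ q : GolayPt, x q = q → r q = q := by
  classical
  obtain ⟨hOK, hall, hlen, hsep, hcert, hlt, hfixall, hcount⟩ := octad_checks
  simp only [List.all_eq_true, decide_eq_true_eq] at hlt hall
  obtain ⟨hto, hfrom, hexp, hp2, hcard⟩ := spanPerm_props hOK
  set R0 := spanPerm octadFour with hR0
  have hhead : octInv ∈ spanTbl (octadFour.map Prod.fst) := by decide +kernel
  obtain ⟨t0, ht0, ht0t⟩ := hfrom _ hhead (hall _ hhead)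
  have hR0fix : ∀ r ∈ R0, ∀ q : GolayPt, t0 q = q → r q = q := by
    intro r hr q hq
    obtain ⟨t, ht, hrt⟩ := hto r hr
    have h2 := hfixall
    simp only [List.all_eq_true, List.mem_range, Bool.or_eq_true, Bool.not_eq_true',
      beq_eq_false_iff_ne, beq_iff_eq] at h2
    refine idx_injective ((hrt q).trans ((h2 t ht _ (idx_lt q)).resolve_left fun hne => hne ?_))
    rw [← ht0t, hq]
  have ht0card : (Finset.univ.filter fun q => t0 q = q).card = 8 := by
    rw [CfsgLib.ExtraspecialLarge.M24Classes.card_fixed ht0t, hcount]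
  have ht0ord : orderOf t0 = 2 := by
    refine orderOf_eq_prime (by rw [pow_two]; exact hexp t0 ht0) fun h => ?_
    rw [h] at ht0card
    simp [Finset.card_univ, GolayPt] at ht0card
  have ht0M : t0 ∈ M24 := spanPerm_le _ ht0
  -- conjugate `x` to the representative
  obtain ⟨w, hw, hwx⟩ : ∃ w ∈ M24, w * t0 * w⁻¹ = x := by
    have hx8 : (Finset.univ.filter fun q => x q = q).card ≠ 0 :=
      (Finset.card_pos.2 ⟨p, by simp [hp]⟩).ne'
    rcases CfsgLib.ExtraspecialLarge.M24Classes.involution_cases hx hord with ⟨-, a, ha, r, hr, he⟩ | ⟨h, -⟩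
    · rcases CfsgLib.ExtraspecialLarge.M24Classes.involution_cases ht0M ht0ord with ⟨-, b, hb, r', hr', he'⟩ | ⟨h, -⟩
      · obtain rfl : r = r' := IsTbl.ext hr hr'
        refine ⟨a * b⁻¹, mul_mem ha (inv_mem hb), ?_⟩
        rw [← he, ← he']
        group
      · rw [ht0card] at h; exact absurd h (by norm_num)
    · exact absurd h hx8
  have hwR : ∀ r, r ∈ R0.map (MulAut.conj w).toMonoidHom ↔ w⁻¹ * r * w ∈ R0 := by
    intro r
    constructor
    · rintro ⟨s, hs, rfl⟩
      simpa [mul_assoc] using hs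
    · intro h
      exact ⟨_, h, by simp [mul_assoc]⟩
  have hcommx : ∀ r ∈ R0.map (MulAut.conj w).toMonoidHom, r * x = x * r := by
    rintro _ ⟨s, hs, rfl⟩
    rw [← hwx]
    simp only [MulEquiv.coe_toMonoidHom, MulAut.conj_apply]
    have := spanPerm_comm hOK hs ht0
    calc w * s * w⁻¹ * (w * t0 * w⁻¹) = w * (s * t0) * w⁻¹ := by group
      _ = w * (t0 * s) * w⁻¹ := by rw [this]
      _ = w * t0 * w⁻¹ * (w * s * w⁻¹) := by group
  have hfixx : ∀ q : GolayPt, x q = q ↔ t0 (w⁻¹ q) = w⁻¹ q := by
    intro q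
    rw [← hwx, Equiv.Perm.mul_apply, Equiv.Perm.mul_apply, Equiv.apply_eq_iff_eq_symm_apply]
    rfl
  have hRfix : ∀ r ∈ R0.map (MulAut.conj w).toMonoidHom, ∀ q : GolayPt, x q = q → r q = q := by
    rintro _ ⟨s, hs, rfl⟩ q hq
    simp only [MulEquiv.coe_toMonoidHom, MulAut.conj_apply, Equiv.Perm.mul_apply]
    rw [hR0fix s hs _ ((hfixx q).1 hq)]
    exact w.apply_symm_apply q
  refine ⟨R0.map (MulAut.conj w).toMonoidHom, ?_, hcommx, fun c hc hcx r hr => ?_, hp2.map _,
    fun g hg hgx hodd hgR => ?_, hRfix⟩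
  · rintro _ ⟨s, hs, rfl⟩
    simpa using mul_mem (mul_mem hw (spanPerm_le _ hs)) (inv_mem hw)
  · -- the subgroup is the pointwise stabiliser of the fixed points
    rw [hwR]
    have hM : w⁻¹ * (c * r * c⁻¹) * w ∈ M24 := by
      have hrM : r ∈ M24 := by
        obtain ⟨s, hs, rfl⟩ := hr
        simpa using mul_mem (mul_mem hw (spanPerm_le _ hs)) (inv_mem hw)
      exact mul_mem (mul_mem (inv_mem hw) (mul_mem (mul_mem hc hrM) (inv_mem hc))) hw
    have hfix : ∀ q : GolayPt, t0 q = q → (w⁻¹ * (c * r * c⁻¹) * w) q = q := by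
      intro q hq
      have hxq : x (w q) = w q := (hfixx _).2 (by simpa using hq)
      have hxc : x (c⁻¹ (w q)) = c⁻¹ (w q) := by
        have h' : x * c⁻¹ = c⁻¹ * x := (show Commute c x from hcx).inv_left.eq.symm
        rw [← Equiv.Perm.mul_apply, h', Equiv.Perm.mul_apply, hxq]
      simp only [Equiv.Perm.mul_apply]
      rw [hRfix r hr _ hxc]
      simp
    -- such an element lies in the span, by orders
    set F := Finset.univ.filter fun q => t0 q = q with hF
    let K : Subgroup PermP := M24 ⊓ fixingSubgroup PermP (F : Set GolayPt)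
    have hle : R0 ≤ K := fun s hs => ⟨spanPerm_le _ hs, (mem_fixingSubgroup_iff _).2
      fun q hq => hR0fix s hs q (Finset.mem_filter.1 hq).2⟩
    have hK : Nat.card K ≤ 16 := by
      have hFo : F ∈ octads := by
        have hsub : F = unmask octMask := by
          have h2 : ∀ p : GolayPt, decide (tblAt octInv (idx p) = idx p) =
              octMask.testBit (idx p) := by decide +kernel
          ext q
          rw [hF, Finset.mem_filter, mem_unmask, ← h2 q, decide_eq_true_eq, ← ht0t]
          exact ⟨fun h => congrArg idx h.2, fun h => ⟨Finset.mem_univ _, idx_injective h⟩⟩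
        rw [hsub]
        exact octMask_mem
      have h16 : Nat.card (CfsgLib.GolayStructure.octadKernel F) = 16 := by
        obtain ⟨a, ha, hao⟩ : ∃ a ∈ M24, a • CfsgLib.GolayStructure.baseOctad = F := by
          obtain ⟨a, ha⟩ := octad_transitive octMask_mem hFo
          exact ⟨a, a.2, by rw [CfsgLib.GolayStructure.baseOctad_eq]; exact ha⟩
        have : F = CfsgLib.GolayStructure.baseOctad := by
          rw [CfsgLib.GolayStructure.baseOctad_eq]
          have h2 : ∀ p : GolayPt, decide (tblAt octInv (idx p) = idx p) =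
              octMask.testBit (idx p) := by decide +kernel
          ext q
          rw [hF, Finset.mem_filter, mem_unmask, ← h2 q, decide_eq_true_eq, ← ht0t]
          exact ⟨fun h => congrArg idx h.2, fun h => ⟨Finset.mem_univ _, idx_injective h⟩⟩
        rw [this, CfsgLib.GolayStructure.octadKernel_base, card_stabK_octadPts]
      exact h16.le
    have heq : R0 = K := Subgroup.eq_of_le_of_card_ge hle (hK.trans (by rw [hcard, hlen]))
    rw [heq]
    exact ⟨hM, (mem_fixingSubgroup_iff _).2 fun q hq => hfix q (Finset.mem_filter.1 hq).2⟩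
  · have hg' : ∀ r ∈ R0, r * (w⁻¹ * g * w) = w⁻¹ * g * w * r := by
      intro r hr
      have := hgR _ ⟨r, hr, rfl⟩
      simp only [MulEquiv.coe_toMonoidHom, MulAut.conj_apply] at this
      calc r * (w⁻¹ * g * w) = w⁻¹ * ((w * r * w⁻¹) * g) * w := by group
        _ = w⁻¹ * (g * (w * r * w⁻¹)) * w := by rw [this]
        _ = w⁻¹ * g * w * r := by group
    have hsq : (w⁻¹ * g * w) ^ 2 = 1 := by
      refine eq_one_of_fix hlt hcert (pow_mem (mul_mem (mul_mem (inv_mem hw) hg) hw) 2) fun i hi => ?_
      rw [pow_two, Equiv.Perm.mul_apply]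
      refine sq_fix_of_commute hsep (fun t ht => hfrom t ht (hall t ht)) hexp hg' ?_
      rw [idx_pt (hlt i hi)]
      exact hi
    have hord' : orderOf (w⁻¹ * g * w) = orderOf g := by
      simpa using (MulAut.conj w⁻¹).orderOf_eq g
    have := eq_one_of_odd_sq hsq (hord'.symm ▸ hodd)
    calc g = w * (w⁻¹ * g * w) * w⁻¹ := by group
      _ = 1 := by rw [this]; group

/-! ### Fixed-point-free involutions -/

/-- Every invariant tetrad through the point 0 off the sextet has a moved partner. -/
def tetradOK : Bool :=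
  (List.range 24).all fun x =>
    let m := 2 ^ 0 ||| 2 ^ tblAt freeInv 0 ||| 2 ^ x ||| 2 ^ tblAt freeInv x
    popc m != 4 || CfsgLib.GolayStructure.sextetMasks.elem m ||
      tetradWitness.any fun e =>
        e.1 == m && inCode e.2 && popc e.2 == 8 && (m &&& e.2 == m) && !(imgMask freeInv e.2 == e.2)

theorem free_checks :
    (spanTbl (CfsgLib.GolayStructure.sextetSix.map Prod.fst)).all inM24 = true ∧
    freeInv ∈ spanTbl (CfsgLib.GolayStructure.sextetSix.map Prod.fst) ∧
    sepOK (spanTbl (CfsgLib.GolayStructure.sextetSix.map Prod.fst)) (List.range 24) = true ∧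
    tetradOK = true ∧
    (CfsgLib.GolayStructure.sextetMasks.all fun m => imgMask freeInv m == m) = true ∧
    (Finset.univ.filter fun p : GolayPt => tblAt freeInv (idx p) = idx p).card = 0 := by
  decide +kernel

/-- An involution of `M24` without fixed points has a good centralizer. -/
theorem good_free {x : PermP} (hx : x ∈ M24) (hord : orderOf x = 2)
    (hfree : ∀ p : GolayPt, x p ≠ p) : GoodCentralizer M24 x := by
  classical
  obtain ⟨hall, hin, hsep, htet, hinv, hcount⟩ := free_checks
  simp only [List.all_eq_true] at hall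
  have hOK := CfsgLib.GolayStructure.sextetStab_checks.2.2
  obtain ⟨hto, hfrom, hexp, hp2, -⟩ := spanPerm_props hOK
  set R0 := spanPerm CfsgLib.GolayStructure.sextetSix with hR0
  obtain ⟨t0, ht0, ht0t⟩ := hfrom _ hin (hall _ hin)
  have ht0M : t0 ∈ M24 := spanPerm_le _ ht0
  have ht0card : (Finset.univ.filter fun q => t0 q = q).card = 0 := by
    rw [CfsgLib.ExtraspecialLarge.M24Classes.card_fixed ht0t, hcount]
  have ht0ord : orderOf t0 = 2 := by
    refine orderOf_eq_prime (by rw [pow_two]; exact hexp t0 ht0) fun h => ?_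
    rw [h] at ht0card
    simp [GolayPt] at ht0card
  obtain ⟨w, hw, hwx⟩ : ∃ w ∈ M24, w * t0 * w⁻¹ = x := by
    rcases CfsgLib.ExtraspecialLarge.M24Classes.involution_cases hx hord with ⟨h, -⟩ | ⟨-, a, ha, r, hr, he⟩
    · have : (Finset.univ.filter fun q => x q = q) = ∅ :=
        Finset.filter_eq_empty_iff.2 fun q _ => hfree q
      rw [this] at h
      exact absurd h (by norm_num)
    · rcases CfsgLib.ExtraspecialLarge.M24Classes.involution_cases ht0M ht0ord with ⟨h, -⟩ | ⟨-, b, hb, r', hr', he'⟩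
      · rw [ht0card] at h; exact absurd h (by norm_num)
      · obtain rfl : r = r' := IsTbl.ext hr hr'
        refine ⟨a * b⁻¹, mul_mem ha (inv_mem hb), ?_⟩
        rw [← he, ← he']
        group
  -- the sextet is determined by the involution
  obtain ⟨hbase, -⟩ := CfsgLib.GolayStructure.baseSextet_eq
  have hstab : ∀ c ∈ M24, c * t0 = t0 * c → c • CfsgLib.GolayStructure.baseSextet =
      CfsgLib.GolayStructure.baseSextet := by
    intro c hc hct
    set S' := c • CfsgLib.GolayStructure.baseSextet with hS'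
    have hbS : CfsgLib.GolayStructure.baseSextet ∈ sextets := by
      rw [← CfsgLib.GolayStructure.orbit_baseSextet]
      exact MulAction.mem_orbit_self _
    have hS'mem : S' ∈ sextets :=
      CfsgLib.GolayStructure.smul_mem_sextets (⟨c, hc⟩ : M24) hbS
    have hmoved : ∀ T ∈ S', t0 • T = T := by
      intro T hT
      obtain ⟨U, hU, rfl⟩ := Finset.mem_smul_finset.1 hT
      rw [hbase, List.mem_toFinset, List.mem_map] at hU
      obtain ⟨m, hm, rfl⟩ := hU
      simp only [List.all_eq_true, beq_iff_eq] at hinv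
      rw [← mul_smul, ← hct, mul_smul, smul_unmask ht0t, hinv m hm]
    obtain ⟨T, hT, h0T⟩ : ∃ T ∈ S', pt 0 ∈ T := by
      have hcardU : (S'.biUnion fun a => a).card = 24 := by
        rw [Finset.card_biUnion fun a ha b hb hab =>
          CfsgLib.GolayStructure.sextet_disjoint hS'mem ha hb hab]
        rw [Finset.sum_congr rfl fun a ha => hS'mem.2.1 a ha, Finset.sum_const, hS'mem.1]
        rfl
      have : pt 0 ∈ S'.biUnion fun a => a := by
        rw [Finset.eq_univ_of_card (S'.biUnion fun a => a) (by rw [hcardU]; rfl)]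
        exact Finset.mem_univ _
      simpa using this
    have hT4 : T.card = 4 := hS'mem.2.1 T hT
    have hclosed : ∀ q ∈ T, t0 q ∈ T := fun q hq => by
      have h := Finset.smul_mem_smul_finset (a := t0) hq
      rwa [hmoved T hT] at h
    have hfix0 : ∀ q, t0 q ≠ q := fun q h => by
      have : q ∈ Finset.univ.filter (fun q => t0 q = q) := by simp [h]
      rw [Finset.card_eq_zero.1 ht0card] at this
      simp at this
    have hsq : ∀ q, t0 (t0 q) = q := fun q => by
      rw [← Equiv.Perm.mul_apply, hexp t0 ht0, Equiv.Perm.one_apply]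
    obtain ⟨q, hqT, hq0, hq1⟩ : ∃ q ∈ T, q ≠ pt 0 ∧ q ≠ t0 (pt 0) := by
      by_contra hcon
      push Not at hcon
      have : T ⊆ {pt 0, t0 (pt 0)} := fun q hq => by
        by_cases h : q = pt 0
        · simp [h]
        · simp [hcon q hq h]
      have := (Finset.card_le_card this).trans (Finset.card_le_two)
      omega
    set m := 2 ^ 0 ||| 2 ^ tblAt freeInv 0 ||| 2 ^ idx q ||| 2 ^ tblAt freeInv (idx q) with hm
    have hidx0 : idx (t0 (pt 0)) = tblAt freeInv 0 := by rw [ht0t, idx_pt (by norm_num)]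
    have hTm : T = unmask m := by
      have he : unmask m = {pt 0, t0 (pt 0), q, t0 q} := by
        rw [hm, unmask_or, unmask_or, unmask_or, ← hidx0, ← ht0t q]
        rw [unmask_two_pow_of_lt (by norm_num : 0 < 24), unmask_two_pow, unmask_two_pow, unmask_two_pow]
        ext y
        simp [or_assoc]
      rw [he]
      refine (Finset.eq_of_subset_of_card_le ?_ ?_).symm
      · intro y hy
        simp only [Finset.mem_insert, Finset.mem_singleton] at hy
        rcases hy with rfl | rfl | rfl | rfl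
        · exact h0T
        · exact hclosed _ h0T
        · exact hqT
        · exact hclosed _ hqT
      · have h1 : pt 0 ≠ t0 (pt 0) := (hfix0 _).symm
        have h2 : pt 0 ≠ t0 q := fun h => hq1 (by rw [h, hsq])
        have h3 : t0 (pt 0) ≠ t0 q := fun h => hq0 (t0.injective h).symm
        rw [hT4, Finset.card_insert_of_notMem (by simp [h1, hq0.symm, h2]),
          Finset.card_insert_of_notMem (by simp [hq1.symm, h3]),
          Finset.card_insert_of_notMem (by simp [(hfix0 q).symm]), Finset.card_singleton]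
    have hpop : popc m = 4 := by rw [← card_unmask, ← hTm, hT4]
    have h2 := htet
    simp only [tetradOK, List.all_eq_true, List.mem_range, Bool.or_eq_true, List.any_eq_true,
      Bool.and_eq_true, beq_iff_eq, bne_iff_ne, Bool.not_eq_true', beq_eq_false_iff_ne] at h2
    rcases h2 (idx q) (idx_lt q) with (h | h) | ⟨e, -, h⟩
    · exact absurd hpop h
    · have hTb : T ∈ CfsgLib.GolayStructure.baseSextet := by
        rw [hbase, hTm, List.mem_toFinset, List.mem_map]
        exact ⟨m, List.elem_iff.1 h, rfl⟩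
      rw [CfsgLib.GolayStructure.eq_sextetOf hS'mem hT, CfsgLib.GolayStructure.eq_sextetOf hbS hTb]
    · obtain ⟨⟨⟨⟨he, hcode⟩, hpc⟩, hsub⟩, hmove⟩ := h
      exfalso
      have ho : unmask e.2 ∈ octads := CfsgLib.GolayStructure.mem_octads_unmask (by simp [hcode, hpc])
      have hTo : T ⊆ unmask e.2 := by
        rw [hTm]
        exact unmask_subset hsub
      have hu : unmask e.2 \ T ∈ S' := by
        rw [CfsgLib.GolayStructure.eq_sextetOf hS'mem hT]
        exact Finset.mem_insert_of_mem (CfsgLib.GolayStructure.mem_partners.2 ⟨_, ho, hTo, rfl⟩)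
      have h1 : t0 • unmask e.2 = unmask e.2 := by
        conv_lhs => rw [← Finset.union_sdiff_of_subset hTo]
        rw [Finset.smul_finset_union, hmoved T hT, hmoved _ hu, Finset.union_sdiff_of_subset hTo]
      rw [smul_unmask ht0t] at h1
      have hlt2 : e.2 < 2 ^ 24 := lt_of_mem_codeMasks (inCode_iff.1 hcode)
      refine hmove (unmask_injOn ?_ hlt2 h1)
      exact Nat.lt_pow_two_of_testBit _ fun j hj => by
        by_contra hb
        rw [Bool.not_eq_false, testBit_imgMask] at hb
        obtain ⟨i, hi, -, rfl⟩ := hb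
        have := idx_lt (t0 (pt i))
        rw [ht0t, idx_pt hi] at this
        omega
  have hnorm : ∀ c ∈ M24, c * t0 = t0 * c → ∀ r ∈ R0, c * r * c⁻¹ ∈ R0 := by
    intro c hc hct r hr
    obtain ⟨r', hr', rfl⟩ := hr
    have hmem : (⟨c, hc⟩ : M24) ∈ MulAction.stabilizer M24 CfsgLib.GolayStructure.baseSextet :=
      hstab c hc hct
    have := (Subgroup.mem_normalizer_iff.1 (CfsgLib.GolayStructure.stab_le_normalizer hmem) r').1 hr'
    exact ⟨_, this, rfl⟩
  refine ⟨R0.map (MulAut.conj w).toMonoidHom, ?_, ?_, fun c hc hcx r hr => ?_, hp2.map _,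
    fun g hg hgx hodd hgR => ?_⟩
  · rintro _ ⟨s, hs, rfl⟩
    simpa using mul_mem (mul_mem hw (spanPerm_le _ hs)) (inv_mem hw)
  · rintro _ ⟨s, hs, rfl⟩
    rw [← hwx]
    simp only [MulEquiv.coe_toMonoidHom, MulAut.conj_apply]
    calc w * s * w⁻¹ * (w * t0 * w⁻¹) = w * (s * t0) * w⁻¹ := by group
      _ = w * (t0 * s) * w⁻¹ := by rw [spanPerm_comm hOK hs ht0]
      _ = w * t0 * w⁻¹ * (w * s * w⁻¹) := by group
  · obtain ⟨s, hs, rfl⟩ := hr
    have hct : w⁻¹ * c * w * t0 = t0 * (w⁻¹ * c * w) := by
      rw [← hwx] at hcx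
      calc w⁻¹ * c * w * t0 = w⁻¹ * (c * (w * t0 * w⁻¹)) * w := by group
        _ = w⁻¹ * ((w * t0 * w⁻¹) * c) * w := by rw [hcx]
        _ = t0 * (w⁻¹ * c * w) := by group
    refine ⟨_, hnorm _ (mul_mem (mul_mem (inv_mem hw) hc) hw) hct s hs, ?_⟩
    simp only [MulEquiv.coe_toMonoidHom, MulAut.conj_apply]
    group
  · have hg' : ∀ r ∈ R0, r * (w⁻¹ * g * w) = w⁻¹ * g * w * r := by
      intro r hr
      have := hgR _ ⟨r, hr, rfl⟩
      simp only [MulEquiv.coe_toMonoidHom, MulAut.conj_apply] at this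
      calc r * (w⁻¹ * g * w) = w⁻¹ * ((w * r * w⁻¹) * g) * w := by group
        _ = w⁻¹ * (g * (w * r * w⁻¹)) * w := by rw [this]
        _ = w⁻¹ * g * w * r := by group
    have hsq : (w⁻¹ * g * w) ^ 2 = 1 := Equiv.ext fun q => by
      rw [pow_two, Equiv.Perm.mul_apply, Equiv.Perm.one_apply]
      exact sq_fix_of_commute hsep (fun t ht => hfrom t ht (hall t ht)) hexp hg'
        (List.mem_range.2 (idx_lt q))
    have hord' : orderOf (w⁻¹ * g * w) = orderOf g := by
      simpa using (MulAut.conj w⁻¹).orderOf_eq g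
    have := eq_one_of_odd_sq hsq (hord'.symm ▸ hodd)
    calc g = w * (w⁻¹ * g * w) * w⁻¹ := by group
      _ = 1 := by rw [this]; group

/-- Every involution of `M24` has a good centralizer. -/
theorem good_M24 {x : PermP} (hx : x ∈ M24) (hord : orderOf x = 2) : GoodCentralizer M24 x := by
  by_cases h : ∃ p, x p = p
  · obtain ⟨p, hp⟩ := h
    obtain ⟨R, h1, h2, h3, h4, h5, -⟩ := good_fix hx hord hp
    exact ⟨R, h1, h2, h3, h4, h5⟩
  · exact good_free hx hord (not_exists.1 h)

/-- Every involution of `M22` has a good centralizer. -/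
theorem good_M22 {x : PermP} (hx : x ∈ Cfsg.Spor.M22) (hord : orderOf x = 2) :
    GoodCentralizer Cfsg.Spor.M22 x := by
  have hx' := hx
  simp only [Cfsg.Spor.M22, Cfsg.Spor.M23, Subgroup.mem_inf, MulAction.mem_stabilizer_iff,
    Equiv.Perm.smul_def] at hx'
  obtain ⟨⟨hxM, hn⟩, hz⟩ := hx'
  obtain ⟨R, h1, h2, h3, h4, h5, h6⟩ := good_fix hxM hord hn
  have hle : Cfsg.Spor.M22 ≤ M24 := inf_le_left.trans inf_le_left
  refine ⟨R, fun r hr => ?_, h2, fun c hc => h3 c (hle hc), h4, fun g hg => h5 g (hle hg)⟩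
  simp only [Cfsg.Spor.M22, Cfsg.Spor.M23, Subgroup.mem_inf, MulAction.mem_stabilizer_iff,
    Equiv.Perm.smul_def]
  exact ⟨⟨h1 hr, h6 r hr _ hn⟩, h6 r hr _ hz⟩

end CfsgLib.Jordan.MathieuCent
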