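import Cfsg.Agent.Lib.Golay.Chain

/-!
Tables of elements of `M24` of prime order with their fixed points, cycles and rigidity certificates,
and of two classes of involutions with normal `2`-subgroups of their centralizers.
-/

set_option autoImplicit false

namespace CfsgLib.Jordan.MathieuData

/-- An element of order 23. -/
def elt23 : ℕ := 258323919926107370473376234314892682

/-- Its fixed points. -/
def fix23 : List ℕ := [14]

/-- Its cycles with certificates. -/
def cyc23 : List (List ℕ × List ℕ) := [
  ([0, 10, 4, 13, 19, 20, 5, 2, 1, 12, 15, 18, 16, 17, 22, 7, 11, 9, 8, 3, 23, 6, 21], [])]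

/-- An element of order 11. -/
def elt11 : ℕ := 970329622278967180886615076405295712

/-- Its fixed points. -/
def fix11 : List ℕ := [0, 23]

/-- Its cycles with certificates. -/
def cyc11 : List (List ℕ × List ℕ) := [
  ([1, 19, 3, 9, 4, 5, 8, 20, 15, 2, 14], [9347075, 1302533, 11100169, 6053905, 15515712, 14254209, 7767041, 14919680]),
  ([6, 21, 16, 7, 13, 18, 10, 12, 17, 22, 11], [9347075, 11100169, 6053905, 5210132, 11952160, 4038912])]

/-- An element of order 7. -/
def elt7 : ℕ := 972920860838614068999498859267183200

/-- Its fixed points. -/
def fix7 : List ℕ := [0, 17, 23]

/-- Its cycles with certificates. -/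
def cyc7 : List (List ℕ × List ℕ) := [
  ([1, 19, 7, 15, 3, 14, 10], [9347075, 11100169, 12222476, 6053905, 11952160, 15515712, 4038912, 8077824, 14919680]),
  ([2, 20, 11, 18, 12, 21, 16], [1302533, 10305542, 11100169, 6053905, 11952160, 15515712, 14254209, 4038912, 8077824]),
  ([4, 5, 6, 22, 13, 8, 9], [12656663, 15335473, 4415544, 6447171, 7438406, 4563017, 14254209, 7767041, 14919680])]

/-- An element of order 5. -/
def elt5 : ℕ := 958197371479539975837934730064764256

/-- Its fixed points. -/
def fix5 : List ℕ := [0, 13, 17, 23]

/-- Its cycles with certificates. -/
def cyc5 : List (List ℕ × List ℕ) := [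
  ([1, 11, 9, 21, 5], [9347075, 11952160, 10846245, 2031657, 15335473, 15515712, 14254209, 4038912, 7767041]),
  ([2, 7, 19, 14, 22], [9347075, 1302533, 11100169, 6053905, 11952160, 15515712, 4038912, 8077824, 7767041, 14919680]),
  ([3, 10, 16, 15, 4], [9347075, 1302533, 11100169, 6053905, 11952160, 15515712, 14254209, 4038912, 8077824, 14919680]),
  ([6, 18, 8, 20, 12], [9347075, 11952160, 11575377, 10698836, 1687640, 5939296, 14254209, 8077824, 7767041])]

/-- An involution commuting with the element of order 7. -/
def comm7 : ℕ := 19050632707095562612782220818188567

/-- An involution commuting with the element of order 5. -/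
def comm5a : ℕ := 26395757881281190784837260085080567

/-- A second one, commuting with both. -/
def comm5b : ℕ := 551766532000669996111322367147005553

/-- Four involutions fixing an octad pointwise. -/
def octadFour : List (ℕ × ℕ) := [(967739223789245171407146504132003936, 967739223789245171407146504132003936),
  (978241746458226444833005867658250464, 978241746458226444833005867658250464),
  (983553042649537266979977019204733184, 983553042649537266979977019204733184),
  (959823939071994704882402347086186784, 959823939071994704882402347086186784)]

/-- A fixed-point-free involution in the span of the six of a sextet. -/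
def freeInv : ℕ := 594058443642639447269110080197362755

/-- Certificate for the complement of the octad. -/
def outsideCert : List ℕ := [9347075, 1302533, 6053905, 11952160, 15515712, 7767041]

/-- The points outside the octad. -/
def outsideList : List ℕ := [1, 3, 7, 8, 9, 12, 13, 14, 15, 16, 17, 18, 19, 20, 21, 22]

/-- For each invariant tetrad off the sextet, an octad above it that moves. -/
def tetradWitness : List (ℕ × ℕ) := [(1049, 8619033), (2121, 10881097), (4233, 118953), (65801, 1122713), (131113, 2031657), (270345, 4563017), (557065, 2916505), (3145737, 7864649), (4194825, 13771273), (8405001, 11100169)]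

end CfsgLib.Jordan.MathieuData
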