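import Cfsg.Agent.Lib.Jordan.MathieuCentralizers
import Mathlib.GroupTheory.SpecificGroups.Cyclic
import Mathlib.GroupTheory.Subgroup.Centralizer
import Mathlib.GroupTheory.Perm.Cycle.Type
import Mathlib.Data.Fintype.Perm

/-!
Centralizers of elements of prime order in the Mathieu groups and the number of their Sylow
subgroups.
-/

set_option autoImplicit false
set_option linter.style.haveILetI false
set_option linter.unusedSectionVars false

open Cfsg CfsgLib.Golay

namespace CfsgLib.Jordan.MathieuCent

open CfsgLib.ExtraspecialLarge.M24Classes (iterAt iterAt_spec)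
open MathieuData

local notation "PermP" => Equiv.Perm GolayPt

/-- The cycles cover the moved points and are, with the fixed points, rigid. -/
def cycDataOK (t : ℕ) (fixL : List ℕ) (cyc : List (List ℕ × List ℕ)) : Bool :=
  (fixL.all fun i => decide (i < 24) && tblAt t i == i) &&
  ((List.range 24).all fun i => (tblAt t i == i) || cyc.any fun e => e.1.elem i) &&
  cyc.all fun e =>
    (e.1.all fun i => decide (i < 24) && e.1.all fun j =>
      (List.range 25).any fun k => iterAt t k i == j) &&
    chainOK ((fixL ++ e.1).map (2 ^ ·)) [] e.2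

/-- Commuting with the element, fixing its fixed points and one moved point forces triviality. -/
theorem eq_one_of_cycData {g : PermP} {t : ℕ} (hg : IsTbl g t) {fixL : List ℕ}
    {cyc : List (List ℕ × List ℕ)} (hok : cycDataOK t fixL cyc = true) {c : PermP} (hc : c ∈ M24)
    (hcg : c * g = g * c) (hfix : ∀ p, g p = p → c p = p) {p : GolayPt} (hp : g p ≠ p)
    (hcp : c p = p) : c = 1 := by
  simp only [cycDataOK, Bool.and_eq_true, List.all_eq_true, List.any_eq_true, List.mem_range,
    Bool.or_eq_true, decide_eq_true_eq, beq_iff_eq, List.elem_iff] at hok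
  obtain ⟨⟨hfixL, hcover⟩, hcyc⟩ := hok
  rcases hcover (idx p) (idx_lt p) with h | ⟨e, he, hpe⟩
  · exact absurd (idx_injective ((hg p).trans h)) hp
  obtain ⟨horb, hcert⟩ := hcyc e he
  refine eq_one_of_fix (W := fixL ++ e.1) (fun i hi => ?_) hcert hc fun i hi => ?_
  · rcases List.mem_append.1 hi with h | h
    · exact (hfixL i h).1
    · exact (horb i h).1
  · rcases List.mem_append.1 hi with h | h
    · refine hfix _ (idx_injective ?_)
      rw [hg, idx_pt (hfixL i h).1, (hfixL i h).2]
    · obtain ⟨k, -, hk⟩ := (horb (idx p) hpe).2 i h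
      have hpk : pt i = (g ^ k) p := by rw [← hk, ← iterAt_spec hg p k, pt_idx]
      rw [hpk, ← Equiv.Perm.mul_apply, ((show Commute c g from hcg).pow_right k).eq,
        Equiv.Perm.mul_apply, hcp]

theorem card_dvd_of_free {G X : Type*} [Group G] [Finite G] [MulAction G X] [Finite X]
    (h : ∀ x : X, MulAction.stabilizer G x = ⊥) : Nat.card G ∣ Nat.card X := by
  classical
  haveI := Fintype.ofFinite (MulAction.orbitRel.Quotient G X)
  rw [Nat.card_congr (MulAction.selfEquivSigmaOrbitsQuotientStabilizer G X), Nat.card_sigma]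
  refine Finset.dvd_sum fun ω _ => dvd_of_eq ?_
  rw [← Subgroup.index, h, Subgroup.index_bot]

/-- The order of the centralizer in `K` of an element with cycle data. -/
theorem card_centralizer_dvd {K : Subgroup PermP} (hK : K ≤ M24) (S : Finset GolayPt)
    (hS : ∀ c ∈ K, ∀ p ∈ S, c p = p) {g : PermP} {t : ℕ} (hg : IsTbl g t) {fixL : List ℕ}
    {cyc : List (List ℕ × List ℕ)} (hok : cycDataOK t fixL cyc = true) (f m : ℕ)
    (hf : (Finset.univ.filter fun p : GolayPt => tblAt t (idx p) = idx p ∧ p ∉ S).card = f)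
    (hm : (Finset.univ.filter fun p : GolayPt => tblAt t (idx p) ≠ idx p).card = m) :
    ∃ k : ℕ, Nat.card ↥(K ⊓ Subgroup.centralizer ({g} : Set PermP)) ∣ f.factorial * k ∧ k ∣ m ∧
      ((Finset.univ.filter fun p : GolayPt => tblAt t (idx p) = idx p).card ∉ [0, 8] → Odd k) := by
  classical
  set C := K ⊓ Subgroup.centralizer ({g} : Set PermP) with hC
  have hcomm : ∀ c : C, (c : PermP) * g = g * c := fun c => by
    have := Subgroup.mem_centralizer_iff.1 (Subgroup.mem_inf.1 c.2).2 g rfl
    exact this.symm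
  have hfixiff : ∀ (c : C) (p : GolayPt), g ((c : PermP) p) = (c : PermP) p ↔ g p = p := fun c p => by
    rw [← Equiv.Perm.mul_apply, ← hcomm c, Equiv.Perm.mul_apply, (c : PermP).injective.eq_iff]
  have hmem : ∀ (c : C) (p : GolayPt),
      (g ((c : PermP) p) = (c : PermP) p ∧ (c : PermP) p ∉ S) ↔ (g p = p ∧ p ∉ S) := fun c p => by
    rw [hfixiff]
    refine and_congr_right fun _ => not_congr ⟨fun h => ?_, fun h => ?_⟩
    · have := hS _ (Subgroup.mem_inf.1 c.2).1 _ h
      rwa [(c : PermP).injective this] at h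
    · rwa [hS _ (Subgroup.mem_inf.1 c.2).1 _ h]
  let φ : C →* Equiv.Perm {p : GolayPt // g p = p ∧ p ∉ S} :=
    { toFun := fun c => (c : PermP).subtypePerm (hmem c)
      map_one' := Equiv.ext fun p => rfl
      map_mul' := fun a b => Equiv.ext fun p => rfl }
  have hker : ∀ c : φ.ker, ∀ p, g p = p → ((c : C) : PermP) p = p := fun c p hp => by
    by_cases hpS : p ∈ S
    · exact hS _ (Subgroup.mem_inf.1 (c : C).2).1 _ hpS
    · exact congrArg Subtype.val (Equiv.ext_iff.1 c.2 ⟨p, hp, hpS⟩)
  let ψ : φ.ker →* Equiv.Perm {p : GolayPt // g p ≠ p} :=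
    { toFun := fun c => ((c : C) : PermP).subtypePerm fun p => not_congr (hfixiff c p)
      map_one' := Equiv.ext fun p => rfl
      map_mul' := fun a b => Equiv.ext fun p => rfl }
  letI : MulAction φ.ker {p : GolayPt // g p ≠ p} := MulAction.compHom _ ψ
  have hfree : ∀ x : {p : GolayPt // g p ≠ p}, MulAction.stabilizer φ.ker x = ⊥ := fun x => by
    rw [Subgroup.eq_bot_iff_forall]
    intro c hc
    exact Subtype.ext (Subtype.ext (eq_one_of_cycData hg hok (hK (Subgroup.mem_inf.1 (c : C).2).1)
      (hcomm c) (hker c) x.2 (congrArg Subtype.val (MulAction.mem_stabilizer_iff.1 hc))))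
  have hX : Nat.card {p : GolayPt // g p ≠ p} = m := by
    rw [Nat.card_eq_fintype_card, Fintype.card_subtype, ← hm]
    refine congrArg Finset.card (Finset.filter_congr fun p _ => not_congr ?_)
    rw [← hg p, idx_injective.eq_iff]
  have hY : Nat.card {p : GolayPt // g p = p ∧ p ∉ S} = f := by
    rw [Nat.card_eq_fintype_card, Fintype.card_subtype, ← hf]
    refine congrArg Finset.card (Finset.filter_congr fun p _ => and_congr ?_ Iff.rfl)
    rw [← hg p, idx_injective.eq_iff]
  refine ⟨Nat.card φ.ker, ?_, hX ▸ card_dvd_of_free hfree, fun hF => ?_⟩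
  · have h1 : Nat.card C = Nat.card φ.range * Nat.card φ.ker := by
      rw [Subgroup.card_eq_card_quotient_mul_card_subgroup φ.ker,
        Nat.card_congr (QuotientGroup.quotientKerEquivRange φ).toEquiv]
    rw [h1, ← hY, ← Nat.card_perm]
    exact mul_dvd_mul_right φ.range.card_subgroup_dvd_card _
  · by_contra hev
    haveI : Fact (Nat.Prime 2) := ⟨Nat.prime_two⟩
    obtain ⟨c, hc⟩ := exists_prime_orderOf_dvd_card' (G := φ.ker) 2
      (even_iff_two_dvd.1 (Nat.not_odd_iff_even.1 hev))
    have hord : orderOf ((c : C) : PermP) = 2 := by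
      rw [Subgroup.orderOf_coe, Subgroup.orderOf_coe, hc]
    have hne : ((c : C) : PermP) ≠ 1 := fun h => by rw [h, orderOf_one] at hord; omega
    have hset : (Finset.univ.filter fun p => ((c : C) : PermP) p = p) =
        Finset.univ.filter fun p : GolayPt => tblAt t (idx p) = idx p := by
      refine Finset.filter_congr fun p _ => ?_
      rw [← hg p, idx_injective.eq_iff]
      exact ⟨fun h => by_contra fun hp => hne (eq_one_of_cycData hg hok
        (hK (Subgroup.mem_inf.1 (c : C).2).1) (hcomm c) (hker c) hp h), hker c p⟩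
    refine hF ?_
    rcases CfsgLib.ExtraspecialLarge.M24Classes.involution_cases
      (hK (Subgroup.mem_inf.1 (c : C).2).1) hord with ⟨h, -⟩ | ⟨h, -⟩ <;> rw [hset] at h <;>
      simp [h]

/-- The normaliser of a subgroup of prime order divides `q - 1` times its centralizer. -/
theorem card_normalizer_dvd {G : Type*} [Group G] [Finite G] {q : ℕ} (hq : q.Prime) (P : Subgroup G)
    (hP : Nat.card P = q) :
    Nat.card ↥(Subgroup.normalizer (P : Set G)) ∣
      (q - 1) * Nat.card ↥(Subgroup.centralizer (P : Set G)) := by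
  haveI : Fact q.Prime := ⟨hq⟩
  haveI : IsCyclic P := isCyclic_of_prime_card hP
  set N := Subgroup.normalizer (P : Set G) with hN
  rw [Subgroup.card_eq_card_quotient_mul_card_subgroup P.normalizerMonoidHom.ker,
    Nat.card_congr (QuotientGroup.quotientKerEquivRange P.normalizerMonoidHom).toEquiv]
  refine mul_dvd_mul ?_ ?_
  · refine P.normalizerMonoidHom.range.card_subgroup_dvd_card.trans (dvd_of_eq ?_)
    rw [IsCyclic.card_mulAut, hP, Nat.totient_prime hq]
  · rw [Subgroup.normalizerMonoidHom_ker]
    exact dvd_of_eq (Nat.card_congr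
      (Subgroup.subgroupOfEquivOfLe (Subgroup.centralizer_le_normalizer _)).toEquiv)

/-- A numerical restriction on the number of Sylow subgroups from the centralizer of a generator. -/
theorem card_sylow_ok {K : Subgroup PermP} {q : ℕ} (hq : q.Prime) (hqK : ¬ q ^ 2 ∣ Nat.card K)
    {g : PermP} (hgK : g ∈ K) (hord : orderOf g = q) {C : ℕ} (hC0 : 0 < C)
    (hC : Nat.card ↥(K ⊓ Subgroup.centralizer ({g} : Set PermP)) ∣ C) {A : ℕ} (hA : A = (q - 1) * C)
    {n : ℕ} (hn : n = Nat.card K) (ok : ℕ → Bool)
    (hok : ((List.range (A + 1)).all fun N =>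
      N == 0 || A % N != 0 || n % N != 0 || (n / N) % q != 1 || ok (n / N)) = true) :
    ok (Nat.card (Sylow q K)) = true ∧
      ∃ Q : Subgroup K, Nat.card Q = q ∧ ∀ a ∈ Q, (a : PermP) ∈ Subgroup.zpowers g := by
  haveI : Fact q.Prime := ⟨hq⟩
  set gK : K := ⟨g, hgK⟩
  have hordK : orderOf gK = q := by rw [← Subgroup.orderOf_coe]; exact hord
  have hcardP : Nat.card (Subgroup.zpowers gK) = q := by rw [Nat.card_zpowers, hordK]
  have hfac : (Nat.card K).factorization q = 1 := by
    have h1 := hq.factorization_pos_of_dvd (Nat.card_pos (α := K)).ne' (hordK ▸ orderOf_dvd_natCard gK)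
    have h2 : ¬ 2 ≤ (Nat.card K).factorization q := fun h =>
      hqK ((pow_dvd_pow q h).trans (Nat.ordProj_dvd _ q))
    omega
  let P : Sylow q K := Sylow.ofCard (Subgroup.zpowers gK) (by rw [hcardP, hfac, pow_one])
  refine ⟨?_, Subgroup.zpowers gK, hcardP, fun a ha => ?_⟩
  · set N := Nat.card ↥(Subgroup.normalizer ((P : Subgroup K) : Set K)) with hN
    have hmul : Nat.card (Sylow q K) * N = Nat.card K := by
      rw [P.card_eq_index_normalizer, hN, mul_comm]
      exact Subgroup.card_mul_index _
    have hdvd : N ∣ A := by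
      rw [hA]
      refine (card_normalizer_dvd hq _ hcardP).trans (mul_dvd_mul_left _ (dvd_trans ?_ hC))
      exact Subgroup.card_dvd_of_injective
        (((K.subtype).comp (Subgroup.centralizer ((P : Subgroup K) : Set K)).subtype).codRestrict
          (K ⊓ Subgroup.centralizer ({g} : Set PermP)) fun c => ⟨(c : K).2, by
            refine Subgroup.mem_centralizer_iff.2 ?_
            rintro _ rfl
            exact congrArg Subtype.val (Subgroup.mem_centralizer_iff.1 c.2 gK (Subgroup.mem_zpowers gK))⟩)
        fun a b h => Subtype.ext (Subtype.ext (congrArg (fun x : ↥(K ⊓ _) => (x : PermP)) h))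
    have hN0 : 0 < N := Nat.card_pos
    have hA0 : 0 < A := by rw [hA]; exact Nat.mul_pos (by have := hq.two_le; omega) hC0
    have hnum : n / N = Nat.card (Sylow q K) := by rw [hn, ← hmul, Nat.mul_div_cancel _ hN0]
    have hmod : Nat.card (Sylow q K) % q = 1 := by
      have := card_sylow_modEq_one q K
      rw [Nat.ModEq, Nat.mod_eq_of_lt hq.one_lt] at this
      exact this
    simp only [List.all_eq_true, List.mem_range, Bool.or_eq_true, beq_iff_eq, bne_iff_ne] at hok
    rcases hok N (Nat.lt_succ_of_le (Nat.le_of_dvd hA0 hdvd)) with (((h | h) | h) | h) | h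
    · omega
    · exact absurd (Nat.mod_eq_zero_of_dvd hdvd) h
    · exact absurd (Nat.mod_eq_zero_of_dvd ⟨_, hn.trans (hmul.symm.trans (mul_comm _ _))⟩) h
    · exact absurd (hnum ▸ hmod) h
    · exact hnum ▸ h
  · obtain ⟨k, rfl⟩ := ha
    exact ⟨k, by simp [gK]⟩

end CfsgLib.Jordan.MathieuCent
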