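import Cfsg.Agent.Lib.RealChar.Extension
import Cfsg.Agent.Lib.Clifford.Gallagher
import Cfsg.Agent.Lib.CharTheory.Degree
import Cfsg.Agent.Lib.CharTheory.Inflation
import Mathlib.LinearAlgebra.Determinant

/-!
Extension of invariant characters of a normal `p`-subgroup of index prime to `p`, and elementary
facts on constituents.
-/

set_option autoImplicit false
set_option linter.style.haveILetI false
set_option linter.unusedSectionVars false

open scoped ComplexConjugate

namespace CfsgLib.Jordan

open Cfsg CfsgLib.CharTheory CfsgLib.Frobenius CfsgLib.Clifford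

universe u

variable {G : Type u} [Group G] [Finite G]

/-- An invariant irreducible character of a normal `p`-subgroup of index prime to `p` extends. -/
theorem exists_extension_of_coprime {p : ℕ} [hp : Fact p.Prime] (N : Subgroup G) [N.Normal]
    (hN : IsPGroup p N) (hidx : ¬ p ∣ N.index) {θ : N → ℂ} (hθ : IsIrrCharacter N θ)
    (hinv : ∀ g : G, conjChar N θ g = θ) :
    ∃ χ : G → ℂ, IsIrrCharacter G χ ∧ ∀ n : N, χ n = θ n := by
  obtain ⟨d, ρ, hρ, rfl⟩ := hθ
  haveI : ρ.IsIrreducible := hρ
  have hinv' : ∀ (g : G) (n : N), ρ.character (MulAut.conjNormal g n) = ρ.character n := fun g n => by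
    have h := congrFun (hinv g) n
    rwa [conjChar_eq_comp] at h
  -- a power of the determinant
  let δ : CfsgLib.RealChar.interGroup N ρ →* ℂˣ :=
    (Units.map (LinearMap.det : Module.End ℂ (Fin d → ℂ) →* ℂ)).comp (CfsgLib.RealChar.interSnd N ρ)
  let φa : CfsgLib.RealChar.interGroup N ρ →* ℂˣ := δ ^ Nat.card N
  have haN : ∀ n, φa (CfsgLib.RealChar.interIncl N ρ n) = 1 := fun n => by
    show δ (CfsgLib.RealChar.interIncl N ρ n) ^ Nat.card N = 1
    rw [← map_pow, ← map_pow, pow_card_eq_one', map_one, map_one]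
  have has : ∀ z, φa (CfsgLib.RealChar.interScalar N ρ z) = z ^ (d * Nat.card N) := fun z => by
    show δ (CfsgLib.RealChar.interScalar N ρ z) ^ Nat.card N = _
    rw [pow_mul]
    congr 1
    refine Units.ext ?_
    show LinearMap.det (algebraMap ℂ (Module.End ℂ (Fin d → ℂ)) (z : ℂ)) = _
    rw [Algebra.algebraMap_eq_smul_one, LinearMap.det_smul, map_one, mul_one,
      Module.finrank_fintype_fun_eq_card, Fintype.card_fin, Units.val_pow_eq_pow_val]
  -- the transfer
  obtain ⟨φb, hbN, hbs⟩ := CfsgLib.RealChar.exists_hom_pow_index hinv' N le_rfl ρ fun n => rfl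
  -- the degree is a power of `p`
  obtain ⟨m, -, hmdvd, hm⟩ := IsIrrCharacter.exists_degree_dvd (isIrrCharacter_character ρ)
  have hmd : d = m := by
    rw [Representation.char_one, Module.finrank_fintype_fun_eq_card, Fintype.card_fin] at hm
    exact_mod_cast hm
  have hNi : (Nat.card N).Coprime N.index := by
    obtain ⟨e, he⟩ := IsPGroup.iff_card.1 hN
    rw [he]
    exact Nat.Coprime.pow_left e ((hp.out.coprime_iff_not_dvd).2 hidx)
  have hgcd : Nat.gcd (d * Nat.card N) N.index = 1 :=
    (Nat.Coprime.coprime_dvd_left (hmd ▸ hmdvd) hNi).mul_left hNi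
  have hbez := Nat.gcd_eq_gcd_ab (d * Nat.card N) N.index
  rw [hgcd] at hbez
  obtain ⟨σ, hσ⟩ := CfsgLib.RealChar.exists_extension_of_hom hinv'
    (φa ^ Nat.gcdA (d * Nat.card N) N.index * φb ^ Nat.gcdB (d * Nat.card N) N.index)
    (fun n => by
      rw [MonoidHom.mul_apply]
      simp only [MonoidHom.zpow_apply, haN, hbN, one_zpow, mul_one])
    (fun z => by
      rw [MonoidHom.mul_apply]
      simp only [MonoidHom.zpow_apply, has, hbs, ← zpow_natCast, ← zpow_mul, ← zpow_add, ← hbez,
        Nat.cast_one, zpow_one])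
  exact ⟨_, CfsgLib.RealChar.isIrrCharacter_of_extension ρ σ hσ⟩

/-- A character whose restriction to a normal subgroup is irreducible is irreducible. -/
theorem isIrrCharacter_of_res [Fintype G] (N : Subgroup G) [N.Normal] [Fintype N] {χ : G → ℂ}
    (hχ : IsCharacter G χ) (hres : IsIrrCharacter N (fun n : N => χ n)) : IsIrrCharacter G χ := by
  rw [isIrrCharacter_iff_norm_one hχ]
  have h1 : classInner (χ * fun g => conj (χ g)) (fun _ => 1) = classInner χ χ := by simp [classInner]
  have hF : cosetAvg N (χ * fun g => conj (χ g)) = fun _ => 1 := by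
    refine eq_one_of_degree_one (isCharacter_cosetAvg N (CfsgLib.CharTheory.isCharacter_mul hχ
      (CfsgLib.CharTheory.isCharacter_conj hχ))) ?_ ?_
    · rw [cosetAvg_one, show classInner (fun n : N => (χ * fun g => conj (χ g)) n) (fun _ => 1)
        = classInner (fun n : N => χ n) (fun n : N => χ n) by simp [classInner]]
      exact classInner_self_of_isIrr hres
    · rw [classInner_cosetAvg_one, h1]
      intro h0
      have h2 := congrArg Complex.re h0
      simp only [classInner, Complex.mul_conj', ← Complex.ofReal_pow, ← Complex.ofReal_sum,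
        ← Complex.ofReal_natCast, ← Complex.ofReal_inv, ← Complex.ofReal_mul, Complex.ofReal_re,
        Complex.zero_re] at h2
      have hone : χ 1 ≠ 0 := fun hz => apply_one_ne_zero_of_isIrr hres (by simpa using hz)
      have hpos : 0 < ∑ g, ‖χ g‖ ^ 2 :=
        Finset.sum_pos' (fun g _ => by positivity) ⟨1, Finset.mem_univ _, pow_pos (norm_pos_iff.2 hone) 2⟩
      have := mul_pos (inv_pos.2 (Nat.cast_pos.2 (Nat.card_pos (α := G)) : (0 : ℝ) < _)) hpos
      linarith
  have h2 := classInner_cosetAvg_one N (χ * fun g => conj (χ g))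
  rw [hF, h1] at h2
  rw [← h2]
  simp [classInner, ← Nat.card_eq_fintype_card]

/-- Inner products of twists of class functions on the quotient by a character with irreducible
restriction. -/
theorem classInner_twist [Fintype G] (N : Subgroup G) [N.Normal] [Fintype N] [Fintype (G ⧸ N)]
    {χ : G → ℂ} (hχ : IsIrrCharacter G χ) (hres : IsIrrCharacter N (fun n : N => χ n))
    (f g : G ⧸ N → ℂ) :
    classInner (fun x : G => f x * χ x) (fun x : G => g x * χ x) = classInner f g := by
  classical
  set F : G → ℂ := χ * fun x => conj (χ x) with hF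
  have havg : ∀ x, cosetAvg N F x = 1 := fun x => congrFun (cosetAvg_mul_conj_self hχ hres) x
  have key : ∀ h : G ⧸ N → ℂ, ∑ x : G, h x * F x = ∑ x : G, h (x : G ⧸ N) := by
    intro h
    calc ∑ x : G, h x * F x
        = ∑ x : G, cosetAvg N (fun y => h y * F y) x := (sum_cosetAvg N _).symm
      _ = ∑ x : G, h x * cosetAvg N F x := Finset.sum_congr rfl fun x _ => by
          have hq : ∀ n : N, (((n : G) * x : G) : G ⧸ N) = (x : G ⧸ N) := fun n => by
            rw [QuotientGroup.mk_mul, (QuotientGroup.eq_one_iff _).2 n.2, one_mul]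
          simp only [cosetAvg, hq, ← Finset.mul_sum]
          ring
      _ = _ := by simp [havg]
  have hsum : ∀ h : G ⧸ N → ℂ, ∑ x : G, h (x : G ⧸ N) = (Nat.card N : ℂ) * ∑ q, h q := by
    intro h
    rw [← (Subgroup.groupEquivQuotientProdSubgroup (s := N)).symm.sum_comp, Fintype.sum_prod_type,
      Finset.mul_sum]
    refine Finset.sum_congr rfl fun q _ => ?_
    rw [Finset.sum_congr rfl (g := fun _ => h q) fun n _ => ?_, Finset.sum_const, Finset.card_univ,
      nsmul_eq_mul, ← Nat.card_eq_fintype_card]
    congr 1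
    exact congrArg Prod.fst ((Subgroup.groupEquivQuotientProdSubgroup (s := N)).apply_symm_apply (q, n))
  simp only [classInner, map_mul]
  rw [Finset.sum_congr rfl (g := fun x : G => (fun q => f q * conj (g q)) (x : G ⧸ N) * F x)
    fun x _ => by simp only [hF, Pi.mul_apply]; ring, key (fun q => f q * conj (g q)),
    hsum (fun q => f q * conj (g q)),
    ← Subgroup.card_mul_index N, Subgroup.index_eq_card]
  have hN : (Nat.card N : ℂ) ≠ 0 := Nat.cast_ne_zero.2 Nat.card_pos.ne'
  push_cast
  field_simp

/-- Constituents of constituents of restrictions are constituents. -/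
theorem classInner_res_res_ne_zero {A B : Type*} [Group A] [Group B] [Fintype A] [Fintype B]
    (f : B →* A) {X : G → ℂ} (hX : IsCharacter G X) (e : A →* G) (η : IrrCharacter A)
    (θ : IrrCharacter B) (h1 : classInner (fun a => X (e a)) (η : A → ℂ) ≠ 0)
    (h2 : classInner (fun b => (η : A → ℂ) (f b)) (θ : B → ℂ) ≠ 0) :
    classInner (fun b => X (e (f b))) (θ : B → ℂ) ≠ 0 := by
  classical
  haveI := Fintype.ofFinite (IrrCharacter A)
  obtain ⟨m, hm⟩ := IsCharacter.exists_sum (CfsgLib.Coherence.isCharacter_comp hX e)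
  have hk : ∀ ψ : IrrCharacter A, ∃ k : ℕ, classInner (fun b => (ψ : A → ℂ) (f b)) (θ : B → ℂ) = k :=
    fun ψ => IsCharacter.exists_classInner_eq_nat
      (CfsgLib.Coherence.isCharacter_comp (IsIrrCharacter.isCharacter ψ.2) f) θ
  choose k hk using hk
  have hsum : (fun b => X (e (f b))) = ∑ ψ : IrrCharacter A, (m ψ : ℂ) • fun b => (ψ : A → ℂ) (f b) := by
    funext b
    simpa [Finset.sum_apply] using congrFun hm (f b)
  rw [hsum]
  simp only [classInner_sum_left, classInner_smul_left, hk, ← Nat.cast_mul, ← Nat.cast_sum]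
  have hmη : classInner (fun a => X (e a)) (η : A → ℂ) = (m η : ℂ) := by
    rw [hm]; exact classInner_sum_irr _ η
  rw [hmη, Nat.cast_ne_zero] at h1
  rw [hk, Nat.cast_ne_zero] at h2
  rw [Nat.cast_ne_zero]
  intro h0
  exact mul_ne_zero h1 h2 (Finset.sum_eq_zero_iff.1 h0 η (Finset.mem_univ _))

theorem classInner_ne_zero_symm {A : Type*} [Group A] [Fintype A] {α β : A → ℂ}
    (h : classInner α β ≠ 0) : classInner β α ≠ 0 := fun h0 => h (by
  rw [classInner_conj_symm, h0, map_zero])

end CfsgLib.Jordan
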