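import Cfsg.Agent.Lib.Jordan.RelExtension
import Cfsg.Agent.Lib.CharDegreesTheory.GlaubermanSubgroup
import Cfsg.Agent.Lib.CharTheory.Linear

/-!
The Glauberman correspondence of a `p`-group acting on a group with a normal Sylow `p`-subgroup
(the relative correspondence): uniqueness and surjectivity.
-/

set_option autoImplicit false
set_option linter.style.haveILetI false
set_option linter.unusedSectionVars false

open scoped ComplexConjugate

namespace CfsgLib.Jordan

open Cfsg CfsgLib.CharTheory CfsgLib.Frobenius CfsgLib.Clifford CfsgLib.CharDegreesTheory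

/-- The inertia group of a function on a normal subgroup. -/
def inertiaOf {G : Type*} [Group G] (N : Subgroup G) [N.Normal] (θ : N → ℂ) : Subgroup G where
  carrier := {g | conjChar N θ g = θ}
  one_mem' := conjChar_one N θ
  mul_mem' := fun {a b} ha hb => by
    show conjChar N θ (a * b) = θ
    rw [← conjChar_conjChar, ha, hb]
  inv_mem' := fun {a} ha => by
    show conjChar N θ a⁻¹ = θ
    conv_lhs => rw [← ha]
    rw [conjChar_conjChar, mul_inv_cancel, conjChar_one]

theorem mem_inertiaOf {G : Type*} [Group G] {N : Subgroup G} [N.Normal] {θ : N → ℂ} {g : G} :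
    g ∈ inertiaOf N θ ↔ conjChar N θ g = θ := Iff.rfl

theorem le_inertiaOf {G : Type*} [Group G] {N : Subgroup G} [N.Normal] {θ : N → ℂ}
    (hθ : IsClassFunction N θ) : N ≤ inertiaOf N θ := fun g hg => funext fun n => by
  rw [conjChar_apply]
  exact hθ n ⟨g, hg⟩

/-- Induction commutes with compatible automorphisms. -/
theorem indFun_comp_mulEquiv {G : Type*} [Group G] [Fintype G] (T : Subgroup G) (e : G ≃* G)
    (e' : T ≃* T) (h : ∀ t : T, (e' t : G) = e t) (ψ : T → ℂ) :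
    indFun T (fun t => ψ (e' t)) = fun g => indFun T ψ (e g) := by
  funext g
  simp only [indFun]
  congr 1
  refine Fintype.sum_equiv e.toEquiv _ _ fun x => ?_
  have hmem : ∀ y : G, y ∈ T ↔ e y ∈ T := fun y => by
    refine ⟨fun hy => h ⟨y, hy⟩ ▸ (e' ⟨y, hy⟩).2, fun hy => ?_⟩
    have h1 := h (e'.symm ⟨e y, hy⟩)
    rw [e'.apply_symm_apply] at h1
    exact e.injective h1 ▸ (e'.symm ⟨e y, hy⟩).2
  have he : e (x⁻¹ * g * x) = (e x)⁻¹ * e g * e x := by simp
  show extendByZero T _ _ = extendByZero T ψ ((e x)⁻¹ * e g * e x)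
  rw [← he]
  by_cases hy : x⁻¹ * g * x ∈ T
  · rw [extendByZero_of_mem T _ hy, extendByZero_of_mem T _ ((hmem _).1 hy)]
    exact congrArg ψ (Subtype.ext (h ⟨_, hy⟩))
  · rw [extendByZero_of_not_mem T _ hy, extendByZero_of_not_mem T _ (mt (hmem _).2 hy)]

section Decomp

variable {G : Type*} [Group G] [Fintype G] (N : Subgroup G) [N.Normal] [Fintype N]

/-- An irreducible character over the restriction of `χ` is an inflated multiple of `χ`. -/
theorem exists_twist {χ : G → ℂ} (hχ : IsIrrCharacter G χ)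
    (hres : IsIrrCharacter N (fun n : N => χ n)) {ψ : G → ℂ} (hψ : IsIrrCharacter G ψ)
    (h : classInner (fun n : N => ψ n) (fun n : N => χ n) ≠ 0) :
    ∃ a : IrrCharacter (G ⧸ N), ψ = fun x : G => (a : G ⧸ N → ℂ) x * χ x := by
  have hinv : ∀ g : G, conjChar N (fun n : N => χ n) g = fun n : N => χ n := fun g => funext fun n =>
    IsIrrCharacter.isClassFunction hχ (n : G) g
  have hb := gallagher_bijOn (φ := fun _ : N => (1 : ℂ)) (θ := fun n : N => χ n) isIrrCharacter_one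
    (fun _ => rfl) hinv (by simpa [Pi.mul_def] using hres) hχ (fun _ => rfl)
  have hmem : ψ ∈ {ψ : G → ℂ | IsIrrCharacter G ψ ∧
      classInner (indFun N ((fun _ : N => (1 : ℂ)) * fun n : N => χ n)) ψ ≠ 0} := by
    refine ⟨hψ, ?_⟩
    rw [classInner_indFun N _ ψ (IsIrrCharacter.isClassFunction hψ)]
    refine classInner_ne_zero_symm ?_
    simpa [Pi.mul_def] using h
  obtain ⟨β, ⟨hβ, hover⟩, hβψ⟩ := hb.surjOn hmem
  have hker : ∀ n ∈ N, β n = β 1 := fun n hn => by
    have := apply_mul_of_over_one (N := N) hβ hover ⟨n, hn⟩ 1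
    rwa [mul_one] at this
  obtain ⟨a, ha, ha'⟩ := exists_descend hβ N hker
  refine ⟨⟨a, ha⟩, ?_⟩
  rw [← hβψ]
  funext x
  simp [ha']

/-- Twists of irreducible characters of the quotient are irreducible. -/
theorem isIrrCharacter_twist {χ : G → ℂ} (hχ : IsIrrCharacter G χ)
    (hres : IsIrrCharacter N (fun n : N => χ n)) (a : IrrCharacter (G ⧸ N)) :
    IsIrrCharacter G (fun x : G => (a : G ⧸ N → ℂ) x * χ x) := by
  haveI := Fintype.ofFinite (G ⧸ N)
  have hc : IsCharacter G (fun x : G => (a : G ⧸ N → ℂ) x * χ x) := isCharacter_mul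
      (IsIrrCharacter.isCharacter (CfsgLib.CharTheory.isIrrCharacter_comp a.2
        (f := QuotientGroup.mk' N) (QuotientGroup.mk'_surjective N)))
      (IsIrrCharacter.isCharacter hχ)
  rw [isIrrCharacter_iff_norm_one hc, classInner_twist N hχ hres]
  exact classInner_self_of_isIrr a.2

/-- The twisting character is determined. -/
theorem twist_injective {χ : G → ℂ} (hχ : IsIrrCharacter G χ)
    (hres : IsIrrCharacter N (fun n : N => χ n)) {a b : IrrCharacter (G ⧸ N)}
    (h : ∀ x : G, (a : G ⧸ N → ℂ) x * χ x = (b : G ⧸ N → ℂ) x * χ x) : a = b := by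
  classical
  haveI := Fintype.ofFinite (G ⧸ N)
  have h1 := classInner_twist N hχ hres (a : G ⧸ N → ℂ) (b : G ⧸ N → ℂ)
  simp only [h] at h1
  rw [classInner_self_of_isIrr (isIrrCharacter_twist N hχ hres b)] at h1
  by_contra hne
  rw [classInner_eq_zero_of_ne a.2 b.2 fun e => hne (Subtype.ext e)] at h1
  exact one_ne_zero h1

end Decomp

variable {S K C : Type*} [Group S] [Finite S] [Group K] [Finite K] [Group C] [Finite C]

/-- The hypotheses of the relative correspondence: `C` is the preimage of the fixed points of `S` on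
`K ⧸ Q`. -/
structure RelSetup (φ : S →* MulAut K) (ι : C →* K) (Q : Subgroup K) (p : ℕ) : Prop where
  isPGroup : IsPGroup p S
  isPGroupQ : IsPGroup p Q
  not_dvd : ¬ p ∣ Q.index
  stable : ∀ s, ∀ q ∈ Q, φ s q ∈ Q
  inj : Function.Injective ι
  fixed_iff : ∀ k : K, (∀ s : S, φ s k * k⁻¹ ∈ Q) ↔ k ∈ ι.range

namespace RelSetup

variable {φ : S →* MulAut K} {ι : C →* K} {Q : Subgroup K} [hQn : Q.Normal] {p : ℕ} [hp : Fact p.Prime]
  (h : RelSetup φ ι Q p)
include h

theorem le_range : Q ≤ ι.range := fun q hq =>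
  (h.fixed_iff q).1 fun s => Q.mul_mem (h.stable s q hq) (Q.inv_mem hq)

theorem apply_mem_range (s : S) (c : C) : φ s (ι c) ∈ ι.range := by
  refine (h.fixed_iff _).1 fun t => ?_
  have h1 := (h.fixed_iff (ι c)).2 ⟨c, rfl⟩
  have h2 := Q.mul_mem (h1 (t * s)) (Q.inv_mem (h1 s))
  rw [map_mul, MulAut.mul_apply] at h2
  simpa [mul_assoc] using h2

/-- The induced action on `C`. -/
noncomputable def actC : S →* MulAut C where
  toFun s := MulEquiv.ofBijective
    (MonoidHom.mk' (fun c => (MonoidHom.ofInjective h.inj).symm ⟨φ s (ι c), h.apply_mem_range s c⟩)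
      fun a b => by
        apply h.inj
        simp [MonoidHom.apply_ofInjective_symm])
    (Finite.injective_iff_bijective.1 fun a b hab => by
      have := congrArg ι hab
      simp only [MonoidHom.mk'_apply, MonoidHom.apply_ofInjective_symm] at this
      exact h.inj ((φ s).injective this))
  map_one' := MulEquiv.ext fun c => h.inj (by simp [MonoidHom.apply_ofInjective_symm])
  map_mul' s t := MulEquiv.ext fun c => h.inj (by simp [MonoidHom.apply_ofInjective_symm])

theorem map_actC (s : S) (c : C) : ι (h.actC s c) = φ s (ι c) := by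
  simp [actC, MonoidHom.apply_ofInjective_symm]

/-- The induced action on the quotient. -/
noncomputable def actQuot : S →* MulAut (K ⧸ Q) where
  toFun s := QuotientGroup.congr Q Q (φ s) (by
    refine le_antisymm ?_ fun q hq => ⟨φ s⁻¹ q, h.stable _ q hq, by
      show φ s (φ s⁻¹ q) = q
      rw [← MulAut.mul_apply, ← map_mul, mul_inv_cancel, map_one, MulAut.one_apply]⟩
    rintro _ ⟨q, hq, rfl⟩
    exact h.stable s q hq)
  map_one' := MulEquiv.ext fun q => by
    obtain ⟨k, rfl⟩ := QuotientGroup.mk_surjective q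
    simp
  map_mul' s t := MulEquiv.ext fun q => by
    obtain ⟨k, rfl⟩ := QuotientGroup.mk_surjective q
    simp

theorem actQuot_mk (s : S) (k : K) : h.actQuot s (k : K ⧸ Q) = ((φ s k : K) : K ⧸ Q) := by
  simp [actQuot]

theorem quot_setup :
    CoprimePSetup h.actQuot (QuotientGroup.map (Q.comap ι) Q ι le_rfl) p := by
  refine ⟨h.isPGroup, by rw [← Subgroup.index_eq_card]; exact h.not_dvd, ?_, fun g => ?_⟩
  · rw [← MonoidHom.ker_eq_bot_iff, eq_bot_iff]
    intro x hx
    obtain ⟨c, rfl⟩ := QuotientGroup.mk_surjective x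
    rw [MonoidHom.mem_ker, QuotientGroup.map_mk, QuotientGroup.eq_one_iff] at hx
    rw [Subgroup.mem_bot, QuotientGroup.eq_one_iff]
    exact hx
  · obtain ⟨k, rfl⟩ := QuotientGroup.mk_surjective g
    constructor
    · intro hfix
      obtain ⟨c, hc⟩ := (h.fixed_iff k).1 fun s => by
        have h1 := hfix s
        rw [h.actQuot_mk] at h1
        rw [← QuotientGroup.eq_one_iff, QuotientGroup.mk_mul, QuotientGroup.mk_inv, h1, mul_inv_cancel]
      exact ⟨(c : C ⧸ Q.comap ι), by rw [QuotientGroup.map_mk, hc]⟩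
    · rintro ⟨x, hx⟩ s
      obtain ⟨c, rfl⟩ := QuotientGroup.mk_surjective x
      rw [QuotientGroup.map_mk] at hx
      rw [← hx, h.actQuot_mk]
      have h1 := (h.fixed_iff (ι c)).2 ⟨c, rfl⟩ s
      rw [← QuotientGroup.eq_one_iff, QuotientGroup.mk_mul, QuotientGroup.mk_inv, mul_inv_eq_one] at h1
      exact h1

theorem not_dvd_index_comap : ¬ p ∣ (Q.comap ι).index := by
  rw [Subgroup.index_eq_card]
  exact h.quot_setup.not_dvd_card

theorem isPGroup_comap : IsPGroup p (Q.comap ι) := h.isPGroupQ.comap_of_injective ι h.inj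

/-- `Q.comap ι` is a copy of `Q`. -/
noncomputable def eQ : Q.comap ι ≃* Q :=
  MulEquiv.ofBijective ((ι.comp (Q.comap ι).subtype).codRestrict Q fun c => c.2)
    ⟨fun a b hab => Subtype.ext (h.inj (congrArg Subtype.val hab)), fun q => by
      obtain ⟨c, hc⟩ := h.le_range q.2
      exact ⟨⟨c, by rw [Subgroup.mem_comap, hc]; exact q.2⟩, Subtype.ext hc⟩⟩

theorem coe_eQ (c : Q.comap ι) : ((h.eQ c : Q) : K) = ι (c : C) := rfl

theorem conjChar_eQ (θ : Q → ℂ) (c : C) :
    conjChar (Q.comap ι) (fun x => θ (h.eQ x)) c = fun x => conjChar Q θ (ι c) (h.eQ x) := by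
  funext x
  simp only [conjChar_apply]
  congr 1
  exact Subtype.ext (by simp [coe_eQ])

/-- An `S`-invariant extension of an invariant character. -/
theorem exists_invariant_extension {θ : Q → ℂ} (hθ : IsIrrCharacter Q θ)
    (hS : ∀ s (q q' : Q), (q' : K) = φ s q → θ q' = θ q)
    (hK : ∀ g : K, conjChar Q θ g = θ) :
    ∃ χ : K → ℂ, IsIrrCharacter K χ ∧ IsInvariant φ χ ∧ ∀ q : Q, χ q = θ q := by
  classical
  haveI := Fintype.ofFinite K
  haveI := Fintype.ofFinite Q
  haveI := Fintype.ofFinite (K ⧸ Q)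
  obtain ⟨χ₀, hχ₀, hχ₀θ⟩ := exists_extension_of_coprime Q h.isPGroupQ h.not_dvd hθ hK
  have hres₀ : IsIrrCharacter Q (fun q : Q => χ₀ q) := by
    rwa [show (fun q : Q => χ₀ q) = θ from funext hχ₀θ]
  let X := {χ : IrrCharacter K // ∀ q : Q, (χ : K → ℂ) q = θ q}
  let L := {a : IrrCharacter (K ⧸ Q) // (a : K ⧸ Q → ℂ) 1 = 1}
  have hL : ∀ a : L, ∀ q : Q, (fun x : K => (a.1 : K ⧸ Q → ℂ) x * χ₀ x) q = θ q := fun a q => by
    show (a.1 : K ⧸ Q → ℂ) (q : K) * χ₀ q = θ q
    rw [(QuotientGroup.eq_one_iff _).2 q.2, a.2, one_mul, hχ₀θ]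
  let f : L → X := fun a => ⟨⟨_, isIrrCharacter_twist Q hχ₀ hres₀ a.1⟩, hL a⟩
  have hf : Function.Bijective f := by
    constructor
    · intro a b hab
      exact Subtype.ext (twist_injective Q hχ₀ hres₀ fun x =>
        congrFun (congrArg (fun χ : X => (χ.1 : K → ℂ)) hab) x)
    · intro χ
      obtain ⟨a, ha⟩ := exists_twist Q hχ₀ hres₀ χ.1.2 (by
        rw [show (fun n : Q => (χ.1 : K → ℂ) n) = θ from funext χ.2,
          show (fun n : Q => χ₀ n) = θ from funext hχ₀θ, classInner_self_of_isIrr hθ]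
        exact one_ne_zero)
      have h1 : (a : K ⧸ Q → ℂ) 1 = 1 := by
        have h2 := congrFun ha ((1 : Q) : K)
        rw [χ.2, (QuotientGroup.eq_one_iff _).2 (1 : Q).2, hχ₀θ] at h2
        exact mul_right_cancel₀ (apply_one_ne_zero_of_isIrr hθ) (by rw [one_mul]; exact h2.symm)
      exact ⟨⟨a, h1⟩, Subtype.ext (Subtype.ext ha.symm)⟩
  have hX : ¬ p ∣ Nat.card X := by
    rw [← Nat.card_congr (Equiv.ofBijective f hf), card_linear]
    refine fun hd => h.not_dvd (hd.trans ?_)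
    rw [Subgroup.index_eq_card Q]
    exact Subgroup.index_dvd_card _
  letI : MulAction S X :=
    { smul := fun s χ => ⟨irrComp (φ s⁻¹) χ.1, fun q => by
        rw [irrComp_apply]
        exact (χ.2 ⟨_, h.stable s⁻¹ q q.2⟩).trans (hS s⁻¹ q _ rfl)⟩
      one_smul := fun χ => Subtype.ext (Subtype.ext (funext fun g => by
        show (χ.1 : K → ℂ) (φ (1 : S)⁻¹ g) = _; simp))
      mul_smul := fun s t χ => Subtype.ext (Subtype.ext (funext fun g => by
        show (χ.1 : K → ℂ) (φ (s * t)⁻¹ g) = (χ.1 : K → ℂ) (φ t⁻¹ (φ s⁻¹ g))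
        simp)) }
  obtain ⟨χ, hχ⟩ := h.isPGroup.nonempty_fixed_point_of_prime_not_dvd_card X hX
  refine ⟨χ.1, χ.1.2, fun s g => ?_, χ.2⟩
  have := congrFun (congrArg (fun χ : X => (χ.1 : K → ℂ)) (hχ s⁻¹)) g
  change (χ.1 : K → ℂ) (φ (s⁻¹)⁻¹ g) = _ at this
  rwa [inv_inv] at this

section Invariant

variable {θ : Q → ℂ} (hθ : IsIrrCharacter Q θ) (hS : ∀ s (q q' : Q), (q' : K) = φ s q → θ q' = θ q)
  (hK : ∀ g : K, conjChar Q θ g = θ)
include hθ hS hK

/-- Everything over an invariant character is a twist. -/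
theorem exists_model :
    ∃ χ₀ : K → ℂ, IsIrrCharacter K χ₀ ∧ IsInvariant φ χ₀ ∧
      (fun q : Q => χ₀ q) = θ ∧ IsIrrCharacter C (fun c => χ₀ (ι c)) ∧
      (fun x : Q.comap ι => χ₀ (ι x)) = (fun x => θ (h.eQ x)) ∧
      IsIrrCharacter (Q.comap ι) (fun x : Q.comap ι => χ₀ (ι x)) := by
  haveI := Fintype.ofFinite C
  haveI := Fintype.ofFinite (Q.comap ι)
  obtain ⟨χ₀, hχ₀, hinv, hres⟩ := h.exists_invariant_extension hθ hS hK
  have hresC : (fun x : Q.comap ι => χ₀ (ι x)) = fun x => θ (h.eQ x) := funext fun x => hres (h.eQ x)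
  have hirrC : IsIrrCharacter (Q.comap ι) (fun x : Q.comap ι => χ₀ (ι x)) := by
    rw [hresC]
    exact isIrrCharacter_comp_equiv hθ h.eQ
  exact ⟨χ₀, hχ₀, hinv, funext hres, isIrrCharacter_of_res (Q.comap ι)
    (isCharacter_comp_hom (IsIrrCharacter.isCharacter hχ₀) ι) hirrC, hresC, hirrC⟩

/-- Uniqueness over an invariant character. -/
theorem unique_invariant [Fintype Q] [Fintype (Q.comap ι)] {χ : IrrCharacter K}
    (hχ : IsInvariant φ (χ : K → ℂ))
    (hχθ : classInner (fun q : Q => (χ : K → ℂ) q) θ ≠ 0)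
    {η η' : IrrCharacter C}
    (hηθ : classInner (fun x : Q.comap ι => (η : C → ℂ) x) (fun x => θ (h.eQ x)) ≠ 0)
    (hηθ' : classInner (fun x : Q.comap ι => (η' : C → ℂ) x) (fun x => θ (h.eQ x)) ≠ 0)
    (hm : ¬ p ∣ mult ι (χ : K → ℂ) (η : C → ℂ)) (hm' : ¬ p ∣ mult ι (χ : K → ℂ) (η' : C → ℂ)) :
    η = η' := by
  classical
  haveI := Fintype.ofFinite K
  haveI := Fintype.ofFinite C
  haveI := Fintype.ofFinite (K ⧸ Q)
  haveI := Fintype.ofFinite (C ⧸ Q.comap ι)
  obtain ⟨χ₀, hχ₀, hinv, hres, hC₀, hresC, hirrC⟩ := h.exists_model hθ hS hK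
  have hresK : IsIrrCharacter Q (fun q : Q => χ₀ q) := by rw [hres]; exact hθ
  obtain ⟨a, ha⟩ := exists_twist Q hχ₀ hresK χ.2 (by rw [hres]; exact hχθ)
  obtain ⟨g, hg⟩ := exists_twist (Q.comap ι) hC₀ hirrC η.2 (by rw [hresC]; exact hηθ)
  obtain ⟨g', hg'⟩ := exists_twist (Q.comap ι) hC₀ hirrC η'.2 (by rw [hresC]; exact hηθ')
  have hainv : IsInvariant h.actQuot (a : K ⧸ Q → ℂ) := by
    intro s x
    have e : irrComp (h.actQuot s) a = a := twist_injective Q hχ₀ hresK fun y => by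
      have h1 := hχ s y
      rw [ha] at h1
      simp only [irrComp_apply, h.actQuot_mk]
      change (a : K ⧸ Q → ℂ) (φ s y : K) * χ₀ (φ s y) = (a : K ⧸ Q → ℂ) (y : K) * χ₀ y at h1
      rwa [hinv s y] at h1
    exact congrFun (congrArg Subtype.val e) x
  have hmult : ∀ (ζ : IrrCharacter C) (b : IrrCharacter (C ⧸ Q.comap ι)),
      (ζ : C → ℂ) = (fun c : C => (b : C ⧸ Q.comap ι → ℂ) c * χ₀ (ι c)) →
      mult ι (χ : K → ℂ) (ζ : C → ℂ) =
        mult (QuotientGroup.map (Q.comap ι) Q ι le_rfl) (a : K ⧸ Q → ℂ) (b : C ⧸ Q.comap ι → ℂ) := by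
    intro ζ b hb
    have h1 := classInner_twist (Q.comap ι) hC₀ hirrC
      (fun q => (a : K ⧸ Q → ℂ) (QuotientGroup.map (Q.comap ι) Q ι le_rfl q))
      (b : C ⧸ Q.comap ι → ℂ)
    simp only [QuotientGroup.map_mk] at h1
    have h2 := classInner_eq_mult ι (IsIrrCharacter.isCharacter χ.2) ζ
    rw [hb, ha, h1, classInner_eq_mult _ (IsIrrCharacter.isCharacter a.2) b] at h2
    rw [hb, ha]
    exact_mod_cast h2.symm
  rw [hmult η g hg] at hm
  rw [hmult η' g' hg'] at hm'
  have hgg := h.quot_setup.unique hainv hm hm'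
  exact Subtype.ext (by rw [hg, hg', hgg])

/-- Surjectivity over an invariant character. -/
theorem surjective_invariant [Fintype Q] [Fintype (Q.comap ι)] {η : IrrCharacter C}
    (hηθ : classInner (fun x : Q.comap ι => (η : C → ℂ) x) (fun x => θ (h.eQ x)) ≠ 0) :
    ∃ χ : IrrCharacter K, IsInvariant φ (χ : K → ℂ) ∧
      classInner (fun q : Q => (χ : K → ℂ) q) θ ≠ 0 ∧ ¬ p ∣ mult ι (χ : K → ℂ) (η : C → ℂ) := by
  classical
  haveI := Fintype.ofFinite K
  haveI := Fintype.ofFinite C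
  haveI := Fintype.ofFinite (K ⧸ Q)
  haveI := Fintype.ofFinite (C ⧸ Q.comap ι)
  obtain ⟨χ₀, hχ₀, hinv, hres, hC₀, hresC, hirrC⟩ := h.exists_model hθ hS hK
  have hresK : IsIrrCharacter Q (fun q : Q => χ₀ q) := by rw [hres]; exact hθ
  obtain ⟨g, hg⟩ := exists_twist (Q.comap ι) hC₀ hirrC η.2 (by rw [hresC]; exact hηθ)
  obtain ⟨a, hainv, ha⟩ := h.quot_setup.surjective g
  refine ⟨⟨_, isIrrCharacter_twist Q hχ₀ hresK a⟩, fun s y => ?_, ?_, ?_⟩
  · show (a : K ⧸ Q → ℂ) (φ s y : K) * χ₀ (φ s y) = (a : K ⧸ Q → ℂ) (y : K) * χ₀ y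
    rw [hinv s y, ← h.actQuot_mk, hainv s]
  · show classInner (fun q : Q => (a : K ⧸ Q → ℂ) (q : K) * χ₀ q) θ ≠ 0
    rw [show (fun q : Q => (a : K ⧸ Q → ℂ) (q : K) * χ₀ q) = (a : K ⧸ Q → ℂ) 1 • θ by
      funext q; rw [← hres, (QuotientGroup.eq_one_iff _).2 q.2]; rfl,
      classInner_smul_left, classInner_self_of_isIrr hθ, mul_one]
    exact apply_one_ne_zero_of_isIrr a.2
  · have h1 := classInner_twist (Q.comap ι) hC₀ hirrC
      (fun q => (a : K ⧸ Q → ℂ) (QuotientGroup.map (Q.comap ι) Q ι le_rfl q))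
      (g : C ⧸ Q.comap ι → ℂ)
    simp only [QuotientGroup.map_mk] at h1
    have h2 := classInner_eq_mult ι
      (IsIrrCharacter.isCharacter (isIrrCharacter_twist Q hχ₀ hresK a)) η
    rw [hg, h1, classInner_eq_mult _ (IsIrrCharacter.isCharacter a.2) g] at h2
    intro hd
    rw [hg] at hd
    exact ha ((Nat.cast_injective (R := ℂ) h2) ▸ hd)

end Invariant

section Global

/-- An invariant character of `C` lies over an invariant character of `Q`. -/
theorem exists_invariant_below [Fintype (Q.comap ι)] {β : IrrCharacter C}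
    (hβ : IsInvariant h.actC (β : C → ℂ)) :
    ∃ θ : Q → ℂ, IsIrrCharacter Q θ ∧ (∀ s (q q' : Q), (q' : K) = φ s q → θ q' = θ q) ∧
      classInner (fun x : Q.comap ι => (β : C → ℂ) x) (fun x => θ (h.eQ x)) ≠ 0 := by
  classical
  haveI := Fintype.ofFinite C
  haveI := Fintype.ofFinite (IrrCharacter (Q.comap ι))
  have hstab : ∀ s (x : Q.comap ι), h.actC s x ∈ Q.comap ι := fun s x => by
    rw [Subgroup.mem_comap, h.map_actC]
    exact h.stable s _ x.2
  let e : S → (Q.comap ι ≃* Q.comap ι) := fun s =>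
    { toFun := fun x => ⟨h.actC s x, hstab s x⟩
      invFun := fun x => ⟨h.actC s⁻¹ x, hstab s⁻¹ x⟩
      left_inv := fun x => Subtype.ext (by simp)
      right_inv := fun x => Subtype.ext (by simp)
      map_mul' := fun a b => Subtype.ext (by simp) }
  let X := {η : IrrCharacter (Q.comap ι) //
    classInner (fun x : Q.comap ι => (β : C → ℂ) x) (η : Q.comap ι → ℂ) ≠ 0}
  have hmove : ∀ s (η : X), classInner (fun x : Q.comap ι => (β : C → ℂ) x)
      ((irrComp (e s) η.1 : IrrCharacter _) : Q.comap ι → ℂ) ≠ 0 := by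
    intro s η h0
    refine η.2 (Eq.trans ?_ h0)
    have e1 := classInner_comp_mulEquiv (e s) (fun x : Q.comap ι => (β : C → ℂ) x)
      (η.1 : Q.comap ι → ℂ)
    rw [← e1]
    congr 1
    funext x
    exact hβ s x
  obtain ⟨η₀, hη₀⟩ : ∃ η : IrrCharacter (Q.comap ι),
      classInner (fun x : Q.comap ι => (β : C → ℂ) x) (η : Q.comap ι → ℂ) ≠ 0 := by
    by_contra hall
    push Not at hall
    have h1 := eq_zero_of_forall_classInner (f := fun x : Q.comap ι => (β : C → ℂ) x)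
      (IsCharacter.isClassFunction (CfsgLib.Coherence.isCharacter_comp
        (IsIrrCharacter.isCharacter β.2) (Q.comap ι).subtype)) hall
    exact apply_one_ne_zero_of_isIrr β.2 (congrFun h1 1)
  let T := inertiaOf (Q.comap ι) (η₀ : Q.comap ι → ℂ)
  have hX : ¬ p ∣ Nat.card X := by
    have hc : Nat.card X = T.index := by
      rw [← card_conjOrbit (Q.comap ι) (η₀ : Q.comap ι → ℂ) T fun g => mem_inertiaOf,
        ← Nat.card_eq_finsetCard]
      refine Nat.card_congr (Equiv.ofBijective (fun η : X =>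
        (⟨(η.1 : Q.comap ι → ℂ), by
          obtain ⟨g, hg⟩ := exists_conj_of_constituents (Q.comap ι) β.2 η₀.2 η.1.2 hη₀ η.2
          exact (mem_conjOrbit _).2 ⟨g, hg.symm⟩⟩ : conjOrbit (Q.comap ι) (η₀ : Q.comap ι → ℂ)))
        ⟨fun a b hab => Subtype.ext (Subtype.ext (congrArg Subtype.val hab :)), fun f => ?_⟩)
      obtain ⟨g, hg⟩ := (mem_conjOrbit _).1 f.2
      refine ⟨⟨⟨_, isIrrCharacter_conjChar (Q.comap ι) η₀.2 g⟩, ?_⟩, Subtype.ext hg⟩
      rw [classInner_conjChar (Q.comap ι) (IsIrrCharacter.isClassFunction β.2)]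
      exact hη₀
    rw [hc]
    exact fun hd => h.not_dvd_index_comap (hd.trans (Subgroup.index_dvd_of_le
      (le_inertiaOf (IsIrrCharacter.isClassFunction η₀.2))))
  letI : MulAction S X :=
    { smul := fun s η => ⟨irrComp (e s⁻¹) η.1, hmove s⁻¹ η⟩
      one_smul := fun η => Subtype.ext (Subtype.ext (funext fun x => by
        show (η.1 : Q.comap ι → ℂ) (e (1 : S)⁻¹ x) = _
        refine congrArg _ (Subtype.ext ?_)
        show h.actC (1 : S)⁻¹ (x : C) = x
        rw [inv_one, map_one, MulAut.one_apply]))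
      mul_smul := fun s t η => Subtype.ext (Subtype.ext (funext fun x => by
        show (η.1 : Q.comap ι → ℂ) (e (s * t)⁻¹ x) = (η.1 : Q.comap ι → ℂ) (e t⁻¹ (e s⁻¹ x))
        refine congrArg _ (Subtype.ext ?_)
        show h.actC (s * t)⁻¹ (x : C) = h.actC t⁻¹ (h.actC s⁻¹ x)
        rw [mul_inv_rev, map_mul, MulAut.mul_apply])) }
  obtain ⟨η, hη⟩ := h.isPGroup.nonempty_fixed_point_of_prime_not_dvd_card X hX
  refine ⟨fun q => (η.1 : Q.comap ι → ℂ) (h.eQ.symm q), isIrrCharacter_comp_equiv η.1.2 h.eQ.symm,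
    fun s q q' hq => ?_, by simpa using η.2⟩
  have h1 := congrFun (congrArg (fun η : X => (η.1 : Q.comap ι → ℂ)) (hη s⁻¹)) (h.eQ.symm q)
  change (η.1 : Q.comap ι → ℂ) (e (s⁻¹)⁻¹ (h.eQ.symm q)) = _ at h1
  rw [inv_inv] at h1
  have hy : e s (h.eQ.symm q) = h.eQ.symm q' := h.eQ.injective (Subtype.ext (by
    rw [h.eQ.apply_symm_apply, coe_eQ, hq]
    show ι (h.actC s _) = _
    rw [h.map_actC, ← h.coe_eQ, h.eQ.apply_symm_apply]))
  rwa [hy] at h1

/-- Two invariant constituents on `Q` of an irreducible character are conjugate by an element of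
`C`. -/
theorem exists_conj_fixed [Fintype Q] {χ : IrrCharacter K} {θ θ' : Q → ℂ}
    (hθ : IsIrrCharacter Q θ) (hθ' : IsIrrCharacter Q θ')
    (hS : ∀ s (q q' : Q), (q' : K) = φ s q → θ q' = θ q)
    (hS' : ∀ s (q q' : Q), (q' : K) = φ s q → θ' q' = θ' q)
    (h1 : classInner (fun q : Q => (χ : K → ℂ) q) θ ≠ 0)
    (h2 : classInner (fun q : Q => (χ : K → ℂ) q) θ' ≠ 0) :
    ∃ c : C, θ' = conjChar Q θ (ι c) := by
  classical
  haveI := Fintype.ofFinite K
  obtain ⟨x, hx⟩ := exists_conj_of_constituents Q χ.2 hθ hθ' h1 h2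
  have hconj : ∀ s g, ∀ q : Q, conjChar Q θ (φ s g) ⟨φ s q, h.stable s q q.2⟩ = conjChar Q θ g q := by
    intro s g q
    simp only [conjChar_apply]
    exact hS s _ _ (by simp)
  have hfix : ∀ s, φ s x * x⁻¹ ∈ inertiaOf Q θ := by
    intro s
    have h3 : conjChar Q θ (φ s x) = conjChar Q θ x := by
      funext q
      have hq : (⟨φ s ((φ s⁻¹) q), h.stable s _ (h.stable _ q q.2)⟩ : Q) = q :=
        Subtype.ext (show φ s (φ s⁻¹ q) = q by
          rw [← MulAut.mul_apply, ← map_mul, mul_inv_cancel, map_one, MulAut.one_apply])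
      have h4 := hconj s x ⟨φ s⁻¹ q, h.stable _ q q.2⟩
      simp only [hq] at h4
      rw [h4, ← hx, hS' s⁻¹ q _ rfl]
    rw [mem_inertiaOf, ← conjChar_conjChar, h3, conjChar_conjChar, mul_inv_cancel, conjChar_one]
  have hTstable : ∀ s, ∀ g ∈ inertiaOf Q θ, φ s g ∈ inertiaOf Q θ := by
    intro s g hg
    rw [mem_inertiaOf]
    funext q
    have hq : (⟨φ s ((φ s⁻¹) q), h.stable s _ (h.stable _ q q.2)⟩ : Q) = q :=
      Subtype.ext (show φ s (φ s⁻¹ q) = q by
          rw [← MulAut.mul_apply, ← map_mul, mul_inv_cancel, map_one, MulAut.one_apply])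
    have h4 := hconj s g ⟨φ s⁻¹ q, h.stable _ q q.2⟩
    simp only [hq] at h4
    rw [h4, mem_inertiaOf.1 hg, hS s⁻¹ q _ rfl]
  let Tq := (inertiaOf Q θ).map (QuotientGroup.mk' Q)
  let X := {q : K ⧸ Q // q * (x : K ⧸ Q)⁻¹ ∈ Tq}
  have hX : ¬ p ∣ Nat.card X := by
    rw [show Nat.card X = Nat.card Tq from Nat.card_congr
      ((Equiv.mulRight (x : K ⧸ Q)⁻¹).subtypeEquiv fun q => Iff.rfl)]
    exact fun hd => h.not_dvd ((hd.trans (Subgroup.card_subgroup_dvd_card _)).trans
      (Subgroup.index_eq_card Q).symm.dvd)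
  have hact : ∀ s (q : K ⧸ Q), q * (x : K ⧸ Q)⁻¹ ∈ Tq → h.actQuot s q * (x : K ⧸ Q)⁻¹ ∈ Tq := by
    intro s q hq
    obtain ⟨t, ht, ht'⟩ := hq
    refine ⟨φ s t * (φ s x * x⁻¹), mul_mem (hTstable s t ht) (hfix s), ?_⟩
    rw [show q = (t : K ⧸ Q) * (x : K ⧸ Q) from mul_inv_eq_iff_eq_mul.1 ht'.symm, map_mul (h.actQuot s), h.actQuot_mk,
      h.actQuot_mk]
    simp [mul_assoc]
  letI : MulAction S X :=
    { smul := fun s q => ⟨h.actQuot s q.1, hact s q.1 q.2⟩
      one_smul := fun q => Subtype.ext (by show h.actQuot 1 q.1 = q.1; simp)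
      mul_smul := fun s t q => Subtype.ext (by
        show h.actQuot (s * t) q.1 = h.actQuot s (h.actQuot t q.1); simp) }
  obtain ⟨q, hq⟩ := h.isPGroup.nonempty_fixed_point_of_prime_not_dvd_card X hX
  obtain ⟨d, hd⟩ := (h.quot_setup.fixed_iff q.1).1 fun s => congrArg Subtype.val (hq s)
  obtain ⟨c, rfl⟩ := QuotientGroup.mk_surjective d
  rw [QuotientGroup.map_mk] at hd
  obtain ⟨t, ht, ht'⟩ := q.2
  rw [← hd] at ht'
  have hmem : ι c * x⁻¹ ∈ inertiaOf Q θ := by
    have h5 : t⁻¹ * (ι c * x⁻¹) ∈ Q := QuotientGroup.eq.1 (by simpa using ht')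
    have := mul_mem ht (le_inertiaOf (IsIrrCharacter.isClassFunction hθ) h5)
    rwa [mul_inv_cancel_left] at this
  refine ⟨c, ?_⟩
  rw [hx]
  conv_rhs => rw [show ι c = ι c * x⁻¹ * x by rw [inv_mul_cancel_right]]
  rw [← conjChar_conjChar, mem_inertiaOf.1 hmem]

end Global

end RelSetup

end CfsgLib.Jordan
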